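import Cfsg.Agent.GHTypes.LFour
import Cfsg.Agent.GH.Q2.Rel

/-!
# (M3) with the structures of `GH/Q2/Rel.lean`
-/

set_option autoImplicit false

open Subgroup

namespace Cfsg.Agent.GHTypes.LFourRel

open Cfsg.Agent.GH.Defs Cfsg.Agent.GH.Q2.Rel Cfsg.Agent.GHTypes.LFour

/-- **(M3)** `R⟨x, t⟩`, `x² = r₁ r₂`, `[x, t] = 1`, is of type `PSL₄(q)`. -/
theorem typeL4 {S : Type*} [Group S] {n : ℕ} {z r₁ y₁ r₂ y₂ x t : S} (h : RelR n z r₁ y₁ r₂ y₂)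
    (hx : RelX (r₁ * r₂) r₁ y₁ r₂ y₂ x) (ht : RelT r₁ y₁ r₂ y₂ t) (htx : t * x = x * t)
    (hgen : closure {t, x, y₂, y₁, r₂, r₁} = ⊤) (hc : Nat.card S = 2 ^ (2 * n + 7)) : TypeL4 S := by
  have hrel : RelFour n z r₁ y₁ r₂ y₂ x t :=
    ⟨h.zz, h.r₁n, h.r₂n, h.y₁y, h.y₂y, h.yr₁, h.yr₂, h.rr, h.ry, h.yr, h.yy, hx.xx, hx.xr₁, hx.xr₂,
      hx.xy₁, hx.xy₂, ht.tt, ht.tr, ht.ty, htx⟩
  refine hrel.typeL4 ?_ hc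
  rw [← hgen]
  congr 1
  ext g
  simp only [Set.mem_insert_iff, Set.mem_singleton_iff]
  tauto

end Cfsg.Agent.GHTypes.LFourRel
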