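import Cfsg.Agent.GH.T4Defs
import Cfsg.Agent.GH.Models.UT34
import Cfsg.Agent.GH.Models.PSL45
import Cfsg.Agent.J2Sylow.SporSylow
import Cfsg.Agent.GH.Defs

/-!
# GH-L2 (T4): the three output types

`UT X Y Z` (coordinates of `UT₃(4)`):
* `typeL34`: `S = L`;
* `typeL4`: `S = L⟨d⟩`, `d` an involution acting as the Frobenius automorphism;
* `sylOf_J2`: `S = L⟨t⟩`, `t` the unitary polarity.
-/

set_option autoImplicit false

open Subgroup

namespace Cfsg.Agent.GHTypes.TFour

open Cfsg.Agent.J2Sylow.Model Cfsg.Agent.J2Sylow.Model.F4 Cfsg.Agent.GH.T4Defs Cfsg.Agent.GH.Pc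
  Cfsg.Agent.GH.PcTypes Cfsg.Agent.GH.Defs

variable {G : Type*} [Group G] {X Y Z : F4 → G} {S : Subgroup G}

/-- The polycyclic generators. -/
def gen6 (X Y Z : F4 → G) : Fin 6 → G := ![X e, X w, Y e, Y w, Z e, Z w]

theorem X_mem {X : F4 → G} (hX : ∀ a b, X a * X b = X (a + b)) (h0 : X 0 = 1) {K : Subgroup G}
    (h1 : X e ∈ K) (h2 : X w ∈ K) (a : F4) : X a ∈ K := by
  cases a
  · have : X o = 1 := h0
    rw [this]
    exact K.one_mem
  · exact h1
  · exact h2
  · have h3 : X u = X e * X w := by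
      rw [hX]
      rfl
    rw [h3]
    exact K.mul_mem h1 h2

theorem closure_gen6 (h : UT X Y Z) : closure (Set.range (gen6 X Y Z)) = h.L := by
  apply le_antisymm
  · rw [closure_le]
    rintro _ ⟨i, rfl⟩
    have hX : ∀ a, X a ∈ h.L := fun a => ⟨a, 0, 0, by rw [h.Y0, h.Z0, one_mul, mul_one]⟩
    have hY : ∀ a, Y a ∈ h.L := fun a => ⟨0, a, 0, by rw [h.X0, h.Z0, mul_one, mul_one]⟩
    have hZ : ∀ a, Z a ∈ h.L := fun a => ⟨0, 0, a, by rw [h.X0, h.Y0, one_mul, one_mul]⟩
    fin_cases i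
    · exact hX _
    · exact hX _
    · exact hY _
    · exact hY _
    · exact hZ _
    · exact hZ _
  · rintro _ ⟨a, b, c, rfl⟩
    have hg : ∀ i, gen6 X Y Z i ∈ closure (Set.range (gen6 X Y Z)) := fun i =>
      Subgroup.subset_closure ⟨i, rfl⟩
    exact Subgroup.mul_mem _ (Subgroup.mul_mem _ (X_mem h.YY h.Y0 (hg 2) (hg 3) b)
      (X_mem h.XX h.X0 (hg 0) (hg 1) a)) (X_mem h.ZZ h.Z0 (hg 4) (hg 5) c)

theorem sat_gen6 (h : UT X Y Z) : Sat UT34 (gen6 X Y Z) := by
  have hXX : ∀ a b, X a * X b = X b * X a := fun a b => by rw [h.XX, h.XX, add_comm]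
  have hYY : ∀ a b, Y a * Y b = Y b * Y a := fun a b => by rw [h.YY, h.YY, add_comm]
  have hZZ : ∀ a b, Z a * Z b = Z b * Z a := fun a b => by rw [h.ZZ, h.ZZ, add_comm]
  have hZu : Z e * Z w = Z u := by rw [h.ZZ]; rfl
  have h02 : X e * Y e = Y e * (Z e * 1) * X e := by
    rw [h.XY, mul_one, mul_assoc, h.ZX]
    rfl
  have h03 : X e * Y w = Y w * (Z w * 1) * X e := by
    rw [h.XY, mul_one, mul_assoc, h.ZX]
    rfl
  have h12 : X w * Y e = Y e * (Z w * 1) * X w := by
    rw [h.XY, mul_one, mul_assoc, h.ZX]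
    rfl
  have h13 : X w * Y w = Y w * (Z e * (Z w * 1)) * X w := by
    rw [h.XY, mul_one, mul_assoc, hZu, h.ZX]
    rfl
  refine sat_of ?_ ?_
  · intro i
    fin_cases i
    · exact h.Xsq e
    · exact h.Xsq w
    · exact h.Ysq e
    · exact h.Ysq w
    · exact h.Zsq e
    · exact h.Zsq w
  · intro i j hij
    fin_cases i <;> fin_cases j <;> first | exact absurd hij (by decide) | skip
    · change X e * X w = X w * 1 * X e
      rw [mul_one, hXX]
    · exact h02
    · exact h03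
    · change X e * Z e = Z e * 1 * X e
      rw [mul_one, h.ZX]
    · change X e * Z w = Z w * 1 * X e
      rw [mul_one, h.ZX]
    · exact h12
    · exact h13
    · change X w * Z e = Z e * 1 * X w
      rw [mul_one, h.ZX]
    · change X w * Z w = Z w * 1 * X w
      rw [mul_one, h.ZX]
    · change Y e * Y w = Y w * 1 * Y e
      rw [mul_one, hYY]
    · change Y e * Z e = Z e * 1 * Y e
      rw [mul_one, h.ZY]
    · change Y e * Z w = Z w * 1 * Y e
      rw [mul_one, h.ZY]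
    · change Y w * Z e = Z e * 1 * Y w
      rw [mul_one, h.ZY]
    · change Y w * Z w = Z w * 1 * Y w
      rw [mul_one, h.ZY]
    · change Z e * Z w = Z w * 1 * Z e
      rw [mul_one, hZZ]

/-- **Output 1**: `S = L` is of type `PSL₃(4)`. -/
theorem typeL34 (h : UT X Y Z) (mem : ∀ g, g ∈ S ↔ ∃ a b c, g = Y b * X a * Z c) : TypeL34 S := by
  have hS : h.L = S := by
    ext g
    rw [mem, h.mem_L]
  apply Cfsg.Agent.GH.Models.UT34.typeL34
  refine isType_of_closure (sat_gen6 h) S ?_ ?_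
  · rw [closure_gen6 h, hS]
  · rw [← hS, h.card_L]
    norm_num

/-! ### extensions by an involution -/

/-- The order of `L⟨d⟩`. -/
theorem card_ext (h : UT X Y Z) {d : G} (hd : d ∉ h.L)
    (mem : ∀ g, g ∈ S ↔ ∃ a b c, g = Y b * X a * Z c ∨ g = Y b * X a * Z c * d) : Nat.card S = 128 := by
  let f : F4 × F4 × F4 × Bool → S := fun p =>
    if p.2.2.2 then ⟨Y p.2.1 * X p.1 * Z p.2.2.1 * d, (mem _).2 ⟨_, _, _, Or.inr rfl⟩⟩
    else ⟨Y p.2.1 * X p.1 * Z p.2.2.1, (mem _).2 ⟨_, _, _, Or.inl rfl⟩⟩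
  have hf0 : ∀ a b c, f (a, b, c, false) = ⟨Y b * X a * Z c, (mem _).2 ⟨_, _, _, Or.inl rfl⟩⟩ :=
    fun a b c => rfl
  have hf1 : ∀ a b c, f (a, b, c, true) = ⟨Y b * X a * Z c * d, (mem _).2 ⟨_, _, _, Or.inr rfl⟩⟩ :=
    fun a b c => rfl
  have hne : ∀ a b c a' b' c', Y b * X a * Z c ≠ Y b' * X a' * Z c' * d := by
    intro a b c a' b' c' he
    apply hd
    have h1 : d = (Y b' * X a' * Z c')⁻¹ * (Y b * X a * Z c) := by
      rw [he]; group
    rw [h1]
    exact h.L.mul_mem (h.L.inv_mem ⟨_, _, _, rfl⟩) ⟨_, _, _, rfl⟩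
  have hf : Function.Bijective f := by
    constructor
    · rintro ⟨a, b, c, i⟩ ⟨a', b', c', j⟩ he
      cases i <;> cases j
      · rw [hf0, hf0] at he
        obtain ⟨rfl, rfl, rfl⟩ := h.nf_inj (congrArg Subtype.val he)
        rfl
      · rw [hf0, hf1] at he
        exact absurd (congrArg Subtype.val he) (hne _ _ _ _ _ _)
      · rw [hf0, hf1] at he
        exact absurd (congrArg Subtype.val he).symm (hne _ _ _ _ _ _)
      · rw [hf1, hf1] at he
        obtain ⟨rfl, rfl, rfl⟩ := h.nf_inj (mul_right_cancel (congrArg Subtype.val he))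
        rfl
    · rintro ⟨g, hg⟩
      obtain ⟨a, b, c, rfl | rfl⟩ := (mem g).1 hg
      · exact ⟨(a, b, c, false), rfl⟩
      · exact ⟨(a, b, c, true), rfl⟩
  rw [← Nat.card_congr (Equiv.ofBijective f hf), Nat.card_prod, Nat.card_prod, Nat.card_prod,
    Nat.card_eq_fintype_card (α := F4), Nat.card_eq_fintype_card (α := Bool)]
  decide

/-- The polycyclic generators of `L⟨d⟩`. -/
def gen7 (X Y Z : F4 → G) (d : G) : Fin 7 → G := ![d, X e, X w, Y e, Y w, Z e, Z w]

/-- **Output 2**: `S = L⟨d⟩`, `d` a field automorphism, is of type `PSL₄(5)`. -/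
theorem typeL4 (h : UT X Y Z) {d : G} (dd : d * d = 1) (dX : ∀ a, d * X a = X (fr a) * d)
    (dY : ∀ a, d * Y a = Y (fr a) * d) (dZ : ∀ a, d * Z a = Z (fr a) * d)
    (mem : ∀ g, g ∈ S ↔ ∃ a b c, g = Y b * X a * Z c ∨ g = Y b * X a * Z c * d) : TypeL4 S := by
  have hd : d ∉ h.L := by
    rintro ⟨a, b, c, hd⟩
    have h1 := dX w
    rw [hd] at h1
    have h2 : (Y b * X a * Z c) * (Y 0 * X w * Z 0) = (Y 0 * X (fr w) * Z 0) * (Y b * X a * Z c) := by
      rw [h.Y0, h.Z0, one_mul, mul_one, one_mul, mul_one]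
      exact h1
    rw [h.mul_nf, h.mul_nf] at h2
    have h3 := (h.nf_inj h2).1
    have h4 : ∀ a, a + w ≠ fr w + a := by decide
    exact h4 a h3
  have hc := card_ext h hd mem
  have hXX : ∀ a b, X a * X b = X b * X a := fun a b => by rw [h.XX, h.XX, add_comm]
  have hYY : ∀ a b, Y a * Y b = Y b * Y a := fun a b => by rw [h.YY, h.YY, add_comm]
  have hZZ : ∀ a b, Z a * Z b = Z b * Z a := fun a b => by rw [h.ZZ, h.ZZ, add_comm]
  have hXu : X e * X w = X u := by rw [h.XX]; rfl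
  have hYu : Y e * Y w = Y u := by rw [h.YY]; rfl
  have hZu : Z e * Z w = Z u := by rw [h.ZZ]; rfl
  have hsat := sat_gen6 h
  have hcj := hsat.cj
  have hsat7 : Sat M22T (gen7 X Y Z d) := by
    refine sat_of ?_ ?_
    · intro i
      fin_cases i
      · exact dd
      · exact h.Xsq e
      · exact h.Xsq w
      · exact h.Ysq e
      · exact h.Ysq w
      · exact h.Zsq e
      · exact h.Zsq w
    · intro i j hij
      fin_cases i <;> fin_cases j <;> first | exact absurd hij (by decide) | skip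
      · change d * X e = X e * 1 * d
        rw [mul_one, dX]
        rfl
      · change d * X w = X e * (X w * 1) * d
        rw [mul_one, hXu, dX]
        rfl
      · change d * Y e = Y e * 1 * d
        rw [mul_one, dY]
        rfl
      · change d * Y w = Y e * (Y w * 1) * d
        rw [mul_one, hYu, dY]
        rfl
      · change d * Z e = Z e * 1 * d
        rw [mul_one, dZ]
        rfl
      · change d * Z w = Z e * (Z w * 1) * d
        rw [mul_one, hZu, dZ]
        rfl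
      · exact hcj 0 1 (by decide)
      · exact hcj 0 2 (by decide)
      · exact hcj 0 3 (by decide)
      · exact hcj 0 4 (by decide)
      · exact hcj 0 5 (by decide)
      · exact hcj 1 2 (by decide)
      · exact hcj 1 3 (by decide)
      · exact hcj 1 4 (by decide)
      · exact hcj 1 5 (by decide)
      · exact hcj 2 3 (by decide)
      · exact hcj 2 4 (by decide)
      · exact hcj 2 5 (by decide)
      · exact hcj 3 4 (by decide)
      · exact hcj 3 5 (by decide)
      · exact hcj 4 5 (by decide)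
  apply Cfsg.Agent.GH.Models.PSL45.typeL4
  refine isType_of_closure hsat7 S ?_ (by rw [hc]; norm_num)
  have hLS : h.L ≤ S := by
    rintro _ ⟨a, b, c, rfl⟩
    exact (mem _).2 ⟨a, b, c, Or.inl rfl⟩
  have hdS : d ∈ S := (mem _).2 ⟨0, 0, 0, Or.inr (by rw [h.X0, h.Y0, h.Z0, one_mul, one_mul, one_mul])⟩
  have h6 : ∀ i, gen6 X Y Z i ∈ h.L := by
    intro i
    rw [← closure_gen6 h]
    exact Subgroup.subset_closure ⟨i, rfl⟩
  apply le_antisymm
  · rw [closure_le]
    rintro _ ⟨i, rfl⟩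
    fin_cases i
    · exact hdS
    · exact hLS (h6 0)
    · exact hLS (h6 1)
    · exact hLS (h6 2)
    · exact hLS (h6 3)
    · exact hLS (h6 4)
    · exact hLS (h6 5)
  · have hg : ∀ i, gen7 X Y Z d i ∈ closure (Set.range (gen7 X Y Z d)) := fun i =>
      Subgroup.subset_closure ⟨i, rfl⟩
    have hm : ∀ a b c, Y b * X a * Z c ∈ closure (Set.range (gen7 X Y Z d)) := fun a b c =>
      Subgroup.mul_mem _ (Subgroup.mul_mem _ (X_mem h.YY h.Y0 (hg 3) (hg 4) b)
        (X_mem h.XX h.X0 (hg 1) (hg 2) a)) (X_mem h.ZZ h.Z0 (hg 5) (hg 6) c)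
    intro g hgS
    obtain ⟨a, b, c, rfl | rfl⟩ := (mem g).1 hgS
    · exact hm a b c
    · exact Subgroup.mul_mem _ (hm a b c) (hg 0)

/-- **Output 3**: `S = L⟨t⟩`, `t` the unitary polarity, is a Sylow 2-subgroup of `J₂`. -/
theorem sylOf_J2 (h : UT X Y Z) {t : G} (tt : t * t = 1) (tX : ∀ a, t * X a = Y (fr a) * t)
    (tZ : ∀ a, t * Z a = Z (fr a) * t)
    (mem : ∀ g, g ∈ S ↔ ∃ a b c, g = Y b * X a * Z c ∨ g = Y b * X a * Z c * t) : SylOf S Spor.J2 := by
  have tY : ∀ a, t * Y a = X (fr a) * t := by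
    intro a
    have h1 := tX (fr a)
    rw [fr_fr] at h1
    have h2 : Y a = t * X (fr a) * t := by rw [h1, mul_assoc, tt, mul_one]
    rw [h2, ← mul_assoc, ← mul_assoc, tt, one_mul]
  have hrel : Cfsg.Agent.J2Sylow.SporSylow.Rel X Y Z t :=
    ⟨h.XX, h.YY, h.ZZ, h.XY, h.ZX, h.ZY, tX, tY, tZ, tt⟩
  have ht : t ∉ h.L := by
    rintro ⟨a, b, c, hd⟩
    have h1 := tX e
    rw [hd] at h1
    have h2 : (Y b * X a * Z c) * (Y 0 * X e * Z 0) = (Y (fr e) * X 0 * Z 0) * (Y b * X a * Z c) := by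
      rw [h.Y0, h.X0, h.Z0, one_mul, mul_one, mul_one, mul_one]
      exact h1
    rw [h.mul_nf, h.mul_nf] at h2
    have h3 := (h.nf_inj h2).1
    have h4 : ∀ a, a + e ≠ 0 + a := by decide
    exact h4 a h3
  let f : T →* G := Cfsg.Agent.J2Sylow.SporSylow.liftHom hrel
  have hf0 : ∀ a b c, f ⟨a, b, c, false⟩ = Y b * X a * Z c := by
    intro a b c
    change Y b * (X a * (Z c * (if false = true then t else 1))) = _
    rw [if_neg (by decide), mul_one, mul_assoc]
  have hf1 : ∀ a b c, f ⟨a, b, c, true⟩ = Y b * X a * Z c * t := by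
    intro a b c
    change Y b * (X a * (Z c * (if true = true then t else 1))) = _
    rw [if_pos rfl, mul_assoc, mul_assoc]
  have hinj : Function.Injective f := by
    rw [injective_iff_map_eq_one]
    rintro ⟨a, b, c, s⟩ h1
    cases s
    · rw [hf0] at h1
      obtain ⟨rfl, rfl, rfl⟩ := h.nf_one h1
      rfl
    · rw [hf1] at h1
      exfalso
      apply ht
      have h2 : t = (Y b * X a * Z c)⁻¹ := (inv_eq_of_mul_eq_one_right h1).symm
      rw [h2]
      exact h.L.inv_mem ⟨_, _, _, rfl⟩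
  have hrange : f.range = S := by
    ext g
    rw [mem, MonoidHom.mem_range]
    constructor
    · rintro ⟨⟨a, b, c, s⟩, rfl⟩
      cases s
      · exact ⟨a, b, c, Or.inl (hf0 a b c)⟩
      · exact ⟨a, b, c, Or.inr (hf1 a b c)⟩
    · rintro ⟨a, b, c, rfl | rfl⟩
      · exact ⟨_, hf0 a b c⟩
      · exact ⟨_, hf1 a b c⟩
  obtain ⟨P⟩ : Nonempty (Sylow 2 Spor.J2) := inferInstance
  obtain ⟨e'⟩ := Cfsg.Agent.J2Sylow.SporSylow.exists_equiv P
  exact ⟨P, ⟨((MulEquiv.subgroupCongr hrange).symm.trans (MonoidHom.ofInjective hinj).symm).trans e'⟩⟩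

end Cfsg.Agent.GHTypes.TFour
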