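import Mathlib

/-!
# Primes with a prescribed 2-part of `p + 1`
-/

set_option autoImplicit false

namespace Cfsg.Agent.GHTypes.Prime

/-- For every `k` there is a prime `p` such that the 2-part of `p + 1` is `4 * 2 ^ k`. -/
theorem exists_prime (k : ℕ) : ∃ p m : ℕ, p.Prime ∧ p + 1 = 4 * 2 ^ k * m ∧ Odd m := by
  have hpos : 0 < 2 ^ k := by positivity
  have : NeZero (8 * 2 ^ k) := ⟨by positivity⟩
  have hu : IsUnit ((4 * 2 ^ k - 1 : ℕ) : ZMod (8 * 2 ^ k)) := by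
    rw [ZMod.isUnit_iff_coprime]
    have h1 : Nat.Coprime (4 * 2 ^ k - 1) (2 ^ (k + 3)) := by
      apply Nat.Coprime.pow_right
      rw [Nat.coprime_two_right, Nat.odd_iff]
      omega
    have h2 : 8 * 2 ^ k = 2 ^ (k + 3) := by ring
    rw [h2]
    exact h1
  obtain ⟨p, -, hp, hpa⟩ := Nat.forall_exists_prime_gt_and_eq_mod hu 0
  rw [ZMod.natCast_eq_natCast_iff] at hpa
  have h1 : p % (8 * 2 ^ k) = 4 * 2 ^ k - 1 := by
    have h2 : p % (8 * 2 ^ k) = (4 * 2 ^ k - 1) % (8 * 2 ^ k) := hpa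
    rw [h2]
    exact Nat.mod_eq_of_lt (by omega)
  refine ⟨p, 2 * (p / (8 * 2 ^ k)) + 1, hp, ?_, ⟨_, rfl⟩⟩
  have h3 := Nat.div_add_mod p (8 * 2 ^ k)
  rw [h1] at h3
  have h4 : 4 * 2 ^ k * (2 * (p / (8 * 2 ^ k)) + 1) = 8 * 2 ^ k * (p / (8 * 2 ^ k)) + 4 * 2 ^ k := by ring
  rw [h4]
  omega

end Cfsg.Agent.GHTypes.Prime
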