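import Cfsg.Agent.GHTypes.LFiveMat
import Cfsg.Agent.GHTypes.Prime
import Cfsg.Agent.LFourA.SylPsl
import Cfsg.Agent.TwoFusion.QDBasic

/-!
# Recognition of the 2-groups of type `PSL₅(q)`, `q ≡ 3 mod 4`

`typeL5_of_rel`: `S = ⟨u, s, w⟩ = SD wr 2`, `SD = ⟨u, s⟩` semidihedral of order `2 ^ (n + 1) ≥ 16`.
-/

set_option autoImplicit false

open Subgroup

namespace Cfsg.Agent.GHTypes.LFive

open Cfsg.Agent.GHTypes.WrTwo Cfsg.Agent.GHTypes.LFiveMat Cfsg.Agent.GH.Defs
  Cfsg.Agent.LFourA.SylMat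

/-! ### semidihedral groups -/

/-- The relations of the semidihedral group of order `2 ^ (n + 1)`. -/
structure RelSD {G : Type*} [Group G] (n : ℕ) (u s : G) : Prop where
  un : u ^ (2 ^ n) = 1
  ss : s * s = 1
  su : s * u = u ^ (2 ^ (n - 1) - 1) * s

section

variable {G H : Type*} [Group G] [Group H] {n : ℕ} {u s : G}

theorem RelSD.map {f : G →* H} (h : RelSD n u s) : RelSD n (f u) (f s) where
  un := by rw [← map_pow, h.un, map_one]
  ss := by rw [← map_mul, h.ss, map_one]
  su := by rw [← map_mul, h.su, map_mul, map_pow]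

theorem RelSD.pair {u' s' : H} (h : RelSD n u s) (h' : RelSD n u' s') : RelSD n (u, u') (s, s') where
  un := Prod.ext h.un h'.un
  ss := Prod.ext h.ss h'.ss
  su := Prod.ext h.su h'.su

theorem RelSD.s_pow (h : RelSD n u s) (i : ℕ) : s * u ^ i = u ^ ((2 ^ (n - 1) - 1) * i) * s := by
  have h1 : SemiconjBy s u (u ^ (2 ^ (n - 1) - 1)) := h.su
  have h2 := (h1.pow_right i).eq
  rw [h2, ← pow_mul]

theorem closure_pair_top (a b : G) :
    closure ({⟨a, Subgroup.subset_closure (Or.inl rfl)⟩, ⟨b, Subgroup.subset_closure (Or.inr rfl)⟩} :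
      Set (closure ({a, b} : Set G))) = ⊤ := by
  apply Subgroup.map_injective (subtype_injective (closure ({a, b} : Set G)))
  rw [MonoidHom.map_closure, ← MonoidHom.range_eq_map, range_subtype, Set.image_insert_eq,
    Set.image_singleton]
  rfl

/-- The elements of the group generated. -/
theorem RelSD.exists_form (h : RelSD n u s) {g : G} (hg : g ∈ closure ({u, s} : Set G)) :
    ∃ (i : ℕ) (e : Bool), g = u ^ i * (if e then s else 1) := by
  have hinv : u⁻¹ = u ^ (2 ^ n - 1) := by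
    apply inv_eq_of_mul_eq_one_right
    rw [← pow_succ', Nat.sub_add_cancel (Nat.one_le_two_pow), h.un]
  have hpinv : ∀ i : ℕ, (u ^ i)⁻¹ = u ^ ((2 ^ n - 1) * i) := by
    intro i
    rw [pow_mul, ← hinv, inv_pow]
  have hsinv : s⁻¹ = s := inv_eq_of_mul_eq_one_left h.ss
  induction hg using Subgroup.closure_induction with
  | mem x hx =>
    rcases hx with rfl | hx
    · exact ⟨1, false, by simp⟩
    · rw [Set.mem_singleton_iff] at hx
      subst hx
      exact ⟨0, true, by simp⟩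
  | one => exact ⟨0, false, by simp⟩
  | mul x y _ _ hx hy =>
    obtain ⟨i, e, rfl⟩ := hx
    obtain ⟨j, e', rfl⟩ := hy
    cases e <;> cases e'
    · exact ⟨i + j, false, by simp [pow_add]⟩
    · exact ⟨i + j, true, by simp [pow_add, mul_assoc]⟩
    · refine ⟨i + (2 ^ (n - 1) - 1) * j, true, ?_⟩
      simp only [if_true, Bool.false_eq_true, if_false, mul_one]
      rw [mul_assoc, h.s_pow, ← mul_assoc, ← pow_add]
    · refine ⟨i + (2 ^ (n - 1) - 1) * j, false, ?_⟩
      simp only [if_true, Bool.false_eq_true, if_false, mul_one]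
      rw [mul_assoc, ← mul_assoc s, h.s_pow, mul_assoc, h.ss, mul_one, ← pow_add]
  | inv x _ hx =>
    obtain ⟨i, e, rfl⟩ := hx
    cases e
    · exact ⟨(2 ^ n - 1) * i, false, by simp [hpinv]⟩
    · refine ⟨(2 ^ (n - 1) - 1) * ((2 ^ n - 1) * i), true, ?_⟩
      simp only [if_true]
      rw [mul_inv_rev, hsinv, hpinv, h.s_pow]

/-- The elements of the group generated, with bounded exponents. -/
theorem RelSD.exists_form' (h : RelSD n u s) {g : G} (hg : g ∈ closure ({u, s} : Set G)) :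
    ∃ (i : Fin (2 ^ n)) (e : Bool), g = u ^ (i : ℕ) * (if e then s else 1) := by
  obtain ⟨i, e, hi⟩ := h.exists_form hg
  refine ⟨⟨i % 2 ^ n, Nat.mod_lt _ (by positivity)⟩, e, ?_⟩
  rw [hi]
  congr 1
  conv_lhs => rw [← Nat.div_add_mod i (2 ^ n), pow_add, pow_mul, h.un, one_pow, one_mul]

theorem RelSD.card_le (h : RelSD n u s) : Finite (closure ({u, s} : Set G)) ∧
    Nat.card (closure ({u, s} : Set G)) ≤ 2 ^ (n + 1) := by
  have h1 : ∀ g : closure ({u, s} : Set G), ∃ p : Fin (2 ^ n) × Bool,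
      (g : G) = u ^ (p.1 : ℕ) * (if p.2 then s else 1) := by
    rintro ⟨g, hg⟩
    obtain ⟨i, e, h2⟩ := h.exists_form' hg
    exact ⟨(i, e), h2⟩
  choose f hf using h1
  have hinj : Function.Injective f := by
    intro s t hst
    apply Subtype.ext
    rw [hf s, hf t, hst]
  have hfin : Finite (closure ({u, s} : Set G)) := Finite.of_injective f hinj
  refine ⟨hfin, ?_⟩
  have h2 := Nat.card_le_card_of_injective f hinj
  rw [Nat.card_prod, Nat.card_fin, Nat.card_eq_fintype_card (α := Bool), Fintype.card_bool] at h2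
  rw [pow_succ]
  exact h2

/-- Two semidihedral groups of the same order are isomorphic. -/
theorem RelSD.exists_equiv [Finite G] [Finite H] {u' s' : H} (h : RelSD n u s) (h' : RelSD n u' s')
    (hgen : closure ({u, s} : Set G) = ⊤) (hgen' : closure ({u', s'} : Set H) = ⊤)
    (hc : Nat.card G = 2 ^ (n + 1)) (hc' : Nat.card H = 2 ^ (n + 1)) : ∃ e : G ≃* H, e u = u' ∧ e s = s' := by
  have hp := h.pair h'
  set K : Subgroup (G × H) := closure ({(u, u'), (s, s')} : Set (G × H)) with hK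
  have hle : Nat.card K ≤ 2 ^ (n + 1) := hp.card_le.2
  have hu : (u, u') ∈ K := Subgroup.subset_closure (Or.inl rfl)
  have hs : (s, s') ∈ K := Subgroup.subset_closure (Or.inr rfl)
  obtain ⟨e, he⟩ := equiv_of_graph K (by
      intro g
      have hg : g ∈ closure ({u, s} : Set G) := hgen ▸ mem_top g
      induction hg using Subgroup.closure_induction with
      | mem x hx =>
        rcases hx with rfl | hx
        · exact ⟨_, hu⟩
        · rw [Set.mem_singleton_iff] at hx
          subst hx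
          exact ⟨_, hs⟩
      | one => exact ⟨1, K.one_mem⟩
      | mul x y _ _ hx hy =>
        obtain ⟨t, ht⟩ := hx
        obtain ⟨t', ht'⟩ := hy
        exact ⟨t * t', K.mul_mem ht ht'⟩
      | inv x _ hx =>
        obtain ⟨t, ht⟩ := hx
        exact ⟨t⁻¹, K.inv_mem ht⟩) (by
      intro g
      have hg : g ∈ closure ({u', s'} : Set H) := hgen' ▸ mem_top g
      induction hg using Subgroup.closure_induction with
      | mem x hx =>
        rcases hx with rfl | hx
        · exact ⟨_, hu⟩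
        · rw [Set.mem_singleton_iff] at hx
          subst hx
          exact ⟨_, hs⟩
      | one => exact ⟨1, K.one_mem⟩
      | mul x y _ _ hx hy =>
        obtain ⟨t, ht⟩ := hx
        obtain ⟨t', ht'⟩ := hy
        exact ⟨t * t', K.mul_mem ht ht'⟩
      | inv x _ hx =>
        obtain ⟨t, ht⟩ := hx
        exact ⟨t⁻¹, K.inv_mem ht⟩) (by rw [hc]; exact hle) (by rw [hc']; exact hle)
  exact ⟨e, he _ _ hu, he _ _ hs⟩

end

/-! ### the Sylow 2-subgroup of `GL₂(q)` -/

section GLTwo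

open Matrix

variable {F E : Type*} [Field F] [Fintype F] [Field E] [Algebra F E] {k : ℕ} (h : Dat F E k)

/-- The element `L y`. -/
def gU : GL (Fin 2) F where
  val := h.L h.y
  inv := h.L h.y⁻¹
  val_inv := by rw [← map_mul, mul_inv_cancel₀ h.y_ne, map_one]
  inv_val := by rw [← map_mul, inv_mul_cancel₀ h.y_ne, map_one]

/-- The element `P`. -/
def gP : GL (Fin 2) F := ⟨h.P, h.P, h.PP, h.PP⟩

theorem gU_pow (i : ℕ) : (gU h ^ i : GL (Fin 2) F).1 = h.L (h.y ^ i) := by
  rw [Units.val_pow_eq_pow_val, map_pow]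
  rfl

theorem pow_eq_one_dvd {j : ℕ} (hj : h.y ^ j = 1) : 8 * 2 ^ k ∣ j := by
  have h1 : orderOf h.y = 2 ^ (k + 2 + 1) := by
    apply orderOf_eq_prime_pow
    · rw [show 2 ^ (k + 2) = 4 * 2 ^ k by ring, h.pow_y]
      intro h2
      apply h.two_ne
      linear_combination -h2
    · rw [show 2 ^ (k + 2 + 1) = 4 * 2 ^ k * 2 by ring, pow_mul, h.pow_y]
      ring
  have h2 := orderOf_dvd_of_pow_eq_one hj
  rw [h1] at h2
  rwa [show 8 * 2 ^ k = 2 ^ (k + 2 + 1) by ring]

theorem L_inj {a b : E} (hab : h.L a = h.L b) : a = b := by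
  by_contra hne
  exact h.L_ne (sub_ne_zero.2 hne) (by rw [map_sub, hab, sub_self])

theorem orderOf_gU : orderOf (gU h) = 8 * 2 ^ k := by
  have h0 : gU h ^ (8 * 2 ^ k) = 1 := by
    apply Units.ext
    rw [gU_pow, show 8 * 2 ^ k = 4 * 2 ^ k * 2 by ring, pow_mul, h.pow_y]
    simp
  apply Nat.dvd_antisymm (orderOf_dvd_of_pow_eq_one h0)
  apply pow_eq_one_dvd h
  apply L_inj h
  rw [← gU_pow, pow_orderOf_eq_one, map_one]
  rfl

theorem relSD_gl : RelSD (k + 3) (gU h) (gP h) where
  un := by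
    rw [show 2 ^ (k + 3) = 8 * 2 ^ k by ring, ← orderOf_gU h, pow_orderOf_eq_one]
  ss := Units.ext h.PP
  su := by
    apply Units.ext
    rw [Units.val_mul, Units.val_mul, gU_pow]
    change h.P * h.L h.y = h.L _ * h.P
    rw [h.P_y]
    congr 2
    have hpos : 0 < 2 ^ k := by positivity
    have h1 : h.y ^ (2 ^ (k + 3 - 1) - 1) * h.y = -1 := by
      rw [← pow_succ, ← h.pow_y]
      congr 1
      rw [show k + 3 - 1 = k + 2 by omega, show 2 ^ (k + 2) = 4 * 2 ^ k by ring]
      omega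
    have h2 := h.y_ne
    field_simp
    rw [← h1, mul_comm]

theorem card_gl (hF : Fintype.card F % 4 = 3) {m : ℕ} (hk : Fintype.card F + 1 = 4 * 2 ^ k * m) (hm : Odd m) :
    (Nat.card (GL (Fin 2) F)).factorization 2 = k + 4 := by
  classical
  have h2 := Matrix.card_GL_field (𝔽 := F) (n := 2)
  obtain ⟨q, hq⟩ : ∃ q, q = Fintype.card F := ⟨_, rfl⟩
  rw [← hq] at h2 hF hk
  rw [Fin.prod_univ_two] at h2
  simp only [Fin.val_zero, Fin.val_one, pow_zero, pow_one] at h2
  obtain ⟨b, hb⟩ : ∃ b, q = 4 * b + 3 := ⟨q / 4, by omega⟩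
  have f1 : q ^ 2 - 1 = 2 * (2 * b + 1) * (4 * 2 ^ k * m) := by
    rw [← hk]
    apply Nat.sub_eq_of_eq_add
    rw [hb]; ring
  have f2 : q ^ 2 - q = q * (2 * (2 * b + 1)) := by
    apply Nat.sub_eq_of_eq_add
    rw [hb]; ring
  rw [f1, f2] at h2
  have h3 : 2 * (2 * b + 1) * (4 * 2 ^ k * m) * (q * (2 * (2 * b + 1))) =
      2 ^ (k + 4) * ((2 * b + 1) * m * q * (2 * b + 1)) := by
    rw [pow_add]
    ring
  have hodd : Odd ((2 * b + 1) * m * q * (2 * b + 1)) := by
    have hqo : Odd q := ⟨2 * b + 1, by omega⟩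
    exact (((Odd.mul ⟨b, rfl⟩ hm).mul hqo).mul ⟨b, rfl⟩)
  rw [h2, h3, Nat.factorization_mul (by positivity) hodd.pos.ne', Nat.Prime.factorization_pow Nat.prime_two]
  simp only [Finsupp.coe_add, Pi.add_apply, Finsupp.single_eq_same]
  rw [Nat.factorization_eq_zero_of_not_dvd, add_zero]
  intro h4
  exact (Nat.not_even_iff_odd.2 hodd) (even_iff_two_dvd.2 h4)

theorem card_closure_gl : Nat.card (closure ({gU h, gP h} : Set (GL (Fin 2) F))) = 2 ^ (k + 4) := by
  classical
  have hle := (relSD_gl h).card_le.2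
  have hfin := (relSD_gl h).card_le.1
  have hU : gU h ∈ closure ({gU h, gP h} : Set (GL (Fin 2) F)) := Subgroup.subset_closure (Or.inl rfl)
  have hP : gP h ∈ closure ({gU h, gP h} : Set (GL (Fin 2) F)) := Subgroup.subset_closure (Or.inr rfl)
  have hlt : zpowers (gU h) < closure ({gU h, gP h} : Set (GL (Fin 2) F)) := by
    refine lt_of_le_of_ne (zpowers_le.2 hU) ?_
    intro heq
    rw [← heq, mem_zpowers_iff_mem_range_orderOf] at hP
    obtain ⟨i, -, hi⟩ := Finset.mem_image.1 hP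
    have h1 := congrArg Units.val hi
    rw [gU_pow] at h1
    have h2 : h.L (1 : E) * h.P = h.L (h.y ^ i) := by
      rw [map_one, one_mul, h1]
      rfl
    exact h.LP_ne one_ne_zero _ h2
  have hdvd : 8 * 2 ^ k ∣ Nat.card (closure ({gU h, gP h} : Set (GL (Fin 2) F))) := by
    rw [← orderOf_gU h, ← Nat.card_zpowers]
    exact Subgroup.card_dvd_of_le hlt.le
  have hgt : 8 * 2 ^ k < Nat.card (closure ({gU h, gP h} : Set (GL (Fin 2) F))) := by
    rw [← orderOf_gU h, ← Nat.card_zpowers]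
    by_contra hcon
    exact hlt.ne (Subgroup.eq_of_le_of_card_ge hlt.le (not_lt.1 hcon))
  obtain ⟨c, hc⟩ := hdvd
  have hpos : 0 < 2 ^ k := by positivity
  have e1 : 2 ^ (k + 4) = 8 * 2 ^ k * 2 := by ring
  have e2 : 2 ^ (k + 3 + 1) = 8 * 2 ^ k * 2 := by ring
  rw [e2, hc] at hle
  rw [hc] at hgt
  have hc2 : c ≤ 2 := Nat.le_of_mul_le_mul_left hle (by positivity)
  have hc1 : 1 < c := by
    by_contra hcon
    have : 8 * 2 ^ k * c ≤ 8 * 2 ^ k * 1 := Nat.mul_le_mul_left _ (by omega)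
    omega
  rw [hc, e1]
  congr 1
  omega

end GLTwo

/-- For every `k` there is a field with semidihedral Sylow 2-subgroups of `GL₂` of order `2 ^ (k + 4)`. -/
theorem exists_field (k : ℕ) : ∃ (p : ℕ) (_ : Fact p.Prime) (P : Sylow 2 (Matrix.GeneralLinearGroup (Fin 2) (ZMod p)))
    (u s : P), Odd (Fintype.card (ZMod p)) ∧ Fintype.card (ZMod p) % 4 = 3 ∧ RelSD (k + 3) u s ∧
      Subgroup.closure ({u, s} : Set P) = ⊤ ∧ Nat.card P = 2 ^ (k + 4) := by
  obtain ⟨p, m, hp, hpm, hm⟩ := Prime.exists_prime k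
  have : Fact p.Prime := ⟨hp⟩
  have hcard : Fintype.card (ZMod p) = p := ZMod.card p
  have h4 : Fintype.card (ZMod p) % 4 = 3 := by
    rw [hcard]
    have h5 : p + 1 = 4 * (2 ^ k * m) := by rw [hpm]; ring
    omega
  have hk : Fintype.card (ZMod p) + 1 = 4 * 2 ^ k * m := by rw [hcard]; exact hpm
  obtain ⟨E, _, _, ⟨h⟩⟩ := Cfsg.Agent.LFourA.SylPsl.exists_dat h4 hk hm
  have hc := card_closure_gl h
  let P : Sylow 2 (Matrix.GeneralLinearGroup (Fin 2) (ZMod p)) :=
    Sylow.ofCard (Subgroup.closure ({gU h, gP h} : Set (Matrix.GeneralLinearGroup (Fin 2) (ZMod p))))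
      (by rw [hc, card_gl h4 hk hm])
  have hU : gU h ∈ Subgroup.closure ({gU h, gP h} : Set (Matrix.GeneralLinearGroup (Fin 2) (ZMod p))) :=
    Subgroup.subset_closure (Or.inl rfl)
  have hP : gP h ∈ Subgroup.closure ({gU h, gP h} : Set (Matrix.GeneralLinearGroup (Fin 2) (ZMod p))) :=
    Subgroup.subset_closure (Or.inr rfl)
  have hr := relSD_gl h
  refine ⟨p, this, P, ⟨gU h, hU⟩, ⟨gP h, hP⟩, ?_, h4, ⟨?_, ?_, ?_⟩, ?_, hc⟩
  · rw [Nat.odd_iff]; omega
  · exact Subtype.ext hr.un
  · exact Subtype.ext hr.ss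
  · exact Subtype.ext hr.su
  · exact closure_pair_top (gU h) (gP h)

/-- **`SD wr 2` is of type `PSL₅(q)`**, `q ≡ 3 mod 4`. -/
theorem typeL5_of_wreath {S W : Type*} [Group S] [Finite S] [Group W] [Finite W] {n : ℕ} (hn : 3 ≤ n) {u s : W}
    (hW : RelSD n u s) (hWgen : closure ({u, s} : Set W) = ⊤) (hWc : Nat.card W = 2 ^ (n + 1)) {φ : W →* S} {w : S}
    (h : Rel φ w) (hgen : closure (Set.range φ ∪ {w}) = ⊤) (hc : Nat.card S = 2 * Nat.card W ^ 2) :
    TypeL5 S := by
  obtain ⟨k, rfl⟩ : ∃ k, n = k + 3 := ⟨n - 3, by omega⟩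
  obtain ⟨p, _, P, u', s', hodd, -, h1, h2, h3⟩ := exists_field k
  obtain ⟨e, -, -⟩ := hW.exists_equiv h1 hWgen h2 hWc h3
  exact ⟨ZMod p, inferInstance, inferInstance, hodd, sylOf_psl hodd P e h hgen hc⟩

/-- **`SD wr 2` is of type `PSL₅(q)`**, `q ≡ 3 mod 4`: equational form. -/
theorem typeL5_of_rel {S : Type*} [Group S] {n : ℕ} (hn : 3 ≤ n) {u s w : S} (h : RelSD n u s) (hww : w * w = 1)
    (huu : w * u * w * u = u * (w * u * w)) (hus : w * u * w * s = s * (w * u * w))
    (hss : w * s * w * s = s * (w * s * w))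
    (hgen : closure ({u, s, w} : Set S) = ⊤) (hc : Nat.card S = 2 ^ (2 * n + 3)) : TypeL5 S := by
  have hfin : Finite S := Nat.finite_of_card_ne_zero (by rw [hc]; positivity)
  set W := closure ({u, s} : Set S) with hW
  have hu : u ∈ W := Subgroup.subset_closure (Or.inl rfl)
  have hs : s ∈ W := Subgroup.subset_closure (Or.inr rfl)
  have hwi : w⁻¹ = w := inv_eq_of_mul_eq_one_left hww
  have hsu : w * s * w * u = u * (w * s * w) := by
    have h1 : w * (w * u * w * s) * w = w * (s * (w * u * w)) * w := by rw [hus]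
    have e1 : w * (w * u * w * s) * w = u * (w * s * w) := by
      calc w * (w * u * w * s) * w = (w * w) * u * (w * s * w) := by group
        _ = _ := by rw [hww, one_mul]
    have e2 : w * (s * (w * u * w)) * w = (w * s * w) * u := by
      calc w * (s * (w * u * w)) * w = w * s * w * u * (w * w) := by group
        _ = _ := by rw [hww, mul_one]
    rw [e1, e2] at h1
    exact h1.symm
  have hmap : W.map (MulAut.conj w).toMonoidHom ≤ centralizer (W : Set S) := by
    rw [hW, MonoidHom.map_closure, closure_le, Set.image_insert_eq, Set.image_singleton]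
    have h0 : ∀ x : S, (MulAut.conj w).toMonoidHom x = w * x * w := by
      intro x
      change w * x * w⁻¹ = _
      rw [hwi]
    have h1 : ∀ x : S, x * u = u * x → x * s = s * x → x ∈ centralizer (closure ({u, s} : Set S) : Set S) := by
      intro x hx1 hx2
      have h2 : closure ({u, s} : Set S) ≤ centralizer {x} := by
        rw [closure_le]
        rintro y (rfl | hy)
        · exact mem_centralizer_singleton_iff.2 hx1.symm
        · rw [Set.mem_singleton_iff] at hy
          subst hy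
          exact mem_centralizer_singleton_iff.2 hx2.symm
      rw [mem_centralizer_iff]
      intro y hy
      exact mem_centralizer_singleton_iff.1 (h2 hy)
    rintro x (rfl | hx)
    · rw [h0]
      exact h1 _ huu hus
    · rw [Set.mem_singleton_iff] at hx
      subst hx
      rw [h0]
      exact h1 _ hsu hss
  have hrel : Rel W.subtype w := by
    refine ⟨hww, ?_⟩
    intro a b
    have h1 : w * (a : S) * w ∈ centralizer (W : Set S) := by
      have h2 := hmap ⟨(a : S), a.2, rfl⟩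
      change w * (a : S) * w⁻¹ ∈ _ at h2
      rwa [hwi] at h2
    exact (mem_centralizer_iff.1 h1 b b.2).symm
  have hgen' : closure (Set.range W.subtype ∪ {w}) = ⊤ := by
    rw [eq_top_iff, ← hgen, closure_le]
    rintro x (rfl | rfl | hx)
    · exact Subgroup.subset_closure (Or.inl ⟨⟨_, hu⟩, rfl⟩)
    · exact Subgroup.subset_closure (Or.inl ⟨⟨_, hs⟩, rfl⟩)
    · exact Subgroup.subset_closure (Or.inr hx)
  have hle := hrel.card_le
  rw [hgen', card_top, hc] at hle
  have hWle := h.card_le.2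
  have hWc : Nat.card W = 2 ^ (n + 1) := by
    apply le_antisymm hWle
    by_contra hcon
    have h1 : Nat.card W < 2 ^ (n + 1) := not_le.1 hcon
    have h2 : Nat.card W ^ 2 < (2 ^ (n + 1)) ^ 2 := Nat.pow_lt_pow_left h1 (by norm_num)
    have h3 : 2 ^ (2 * n + 3) = 2 * (2 ^ (n + 1)) ^ 2 := by
      rw [← pow_mul]
      ring
    omega
  have hWr : RelSD n (⟨u, hu⟩ : W) ⟨s, hs⟩ := ⟨Subtype.ext h.un, Subtype.ext h.ss, Subtype.ext h.su⟩
  have hWgen : closure ({⟨u, hu⟩, ⟨s, hs⟩} : Set W) = ⊤ := closure_pair_top u s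
  exact typeL5_of_wreath hn hWr hWgen hWc hrel hgen' (by rw [hc, hWc, ← pow_mul]; ring)

end Cfsg.Agent.GHTypes.LFive
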