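import Cfsg.Agent.GHTypes.WrTwo
import Cfsg.Agent.LFourA.SylMat
import Cfsg.Agent.S0243
import Cfsg.Agent.GH.Defs

/-!
# Sylow 2-subgroups of `PSL₅(q)`, `q` odd

`sylOf_psl`: a group `S` of order `2 * |W| ^ 2` with the relations of `W wr 2`, where `W` is (isomorphic to) a Sylow 2-subgroup of
`GL₂(F)`, `|F|` odd, is isomorphic to a Sylow 2-subgroup of `PSL₅(F)`.
-/

set_option autoImplicit false

open Subgroup

namespace Cfsg.Agent.GHTypes.LFiveMat

open Matrix Cfsg.Agent.GHTypes.WrTwo Cfsg.Agent.GH.Defs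

/-! ### recognition of Sylow subgroups -/

/-- The subgroup generated by a model, as a group with the relations. -/
theorem exists_rel {W Y : Type*} [Group W] [Group Y] {ψ : W →* Y} {v : Y} (h : Rel ψ v) :
    ∃ (ψ' : W →* ↥(closure (Set.range ψ ∪ {v}))) (v' : ↥(closure (Set.range ψ ∪ {v}))), Rel ψ' v' ∧
      closure (Set.range ψ' ∪ {v'}) = ⊤ := by
  have hψ : ∀ a, ψ a ∈ closure (Set.range ψ ∪ {v}) := fun a => Subgroup.subset_closure (Or.inl ⟨a, rfl⟩)
  have hv : v ∈ closure (Set.range ψ ∪ {v}) := Subgroup.subset_closure (Or.inr rfl)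
  refine ⟨ψ.codRestrict _ hψ, ⟨v, hv⟩, ⟨Subtype.ext h.ww, fun a b => Subtype.ext (h.comm a b)⟩, ?_⟩
  apply Subgroup.map_injective (subtype_injective (closure (Set.range ψ ∪ {v})))
  rw [MonoidHom.map_closure, ← MonoidHom.range_eq_map, range_subtype, Set.image_union, ← Set.range_comp,
    Set.image_singleton]
  rfl

/-- A group with the relations of `W wr 2` is a Sylow 2-subgroup of a group containing a model of the right order. -/
theorem sylOf_of_rel {S Y W : Type*} [Group S] [Group Y] [Group W] [Finite S] [Finite Y] [Finite W]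
    {φ : W →* S} {w : S} (h : Rel φ w) (hgen : closure (Set.range φ ∪ {w}) = ⊤)
    (hc : Nat.card S = 2 * Nat.card W ^ 2) {ψ : W →* Y} {v : Y} (h' : Rel ψ v)
    (hc' : Nat.card (closure (Set.range ψ ∪ {v})) = 2 * Nat.card W ^ 2)
    (hY : 2 * Nat.card W ^ 2 = 2 ^ (Nat.card Y).factorization 2) : SylOf S Y := by
  obtain ⟨ψ', v', h1, h2⟩ := exists_rel h'
  obtain ⟨e, -, -⟩ := h.exists_equiv h1 hgen h2 hc hc'
  exact ⟨Sylow.ofCard (closure (Set.range ψ ∪ {v})) (by rw [hc', hY]), ⟨e⟩⟩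

/-! ### block matrices of size 5 -/

section Block

variable {F : Type*} [Field F]

/-- The index equivalence. -/
def e5 : (Fin 2 ⊕ Fin 2) ⊕ Fin 1 ≃ Fin 5 :=
  (Equiv.sumCongr finSumFinEquiv (Equiv.refl (Fin 1))).trans finSumFinEquiv

/-- Block matrices of size `2 + 2 + 1`. -/
def bm (A B C D : Matrix (Fin 2) (Fin 2) F) (c : F) : Matrix (Fin 5) (Fin 5) F :=
  Matrix.reindexAlgEquiv F F e5
    (Matrix.fromBlocks (Matrix.fromBlocks A B C D) 0 0 (Matrix.scalar (Fin 1) c))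

variable (A B C D A' B' C' D' : Matrix (Fin 2) (Fin 2) F) (c c' : F)

theorem bm_mul : bm A B C D c * bm A' B' C' D' c' =
    bm (A * A' + B * C') (A * B' + B * D') (C * A' + D * C') (C * B' + D * D') (c * c') := by
  rw [bm, bm, ← map_mul, Matrix.fromBlocks_multiply, Matrix.fromBlocks_multiply, bm]
  simp only [Matrix.mul_zero, Matrix.zero_mul, add_zero, zero_add, map_mul]

variable {A B C D A' B' C' D' c c'} in
theorem bm_inj : bm A B C D c = bm A' B' C' D' c' ↔ (A = A' ∧ B = B' ∧ C = C' ∧ D = D') ∧ c = c' := by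
  rw [bm, bm, (Matrix.reindexAlgEquiv F F e5).injective.eq_iff, Matrix.fromBlocks_inj,
    Matrix.fromBlocks_inj]
  simp only [true_and]
  refine and_congr_right fun _ => ?_
  exact Matrix.scalar_inj

theorem bm_one : bm (1 : Matrix (Fin 2) (Fin 2) F) 0 0 1 1 = 1 := by
  rw [bm, Matrix.fromBlocks_one, map_one, Matrix.fromBlocks_one, map_one]

theorem det_bm_diag : (bm A 0 0 D c).det = A.det * D.det * c := by
  rw [bm, Matrix.det_reindexAlgEquiv, Matrix.det_fromBlocks_zero₂₁, Matrix.det_fromBlocks_zero₂₁]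
  simp

theorem det_bm_swap : (bm (0 : Matrix (Fin 2) (Fin 2) F) 1 1 0 1).det = 1 := by
  have h1 := Cfsg.Agent.LFourA.SylMat.det_swap (F := F)
  rw [Cfsg.Agent.LFourA.SylMat.fb, Matrix.det_reindexAlgEquiv] at h1
  rw [bm, Matrix.det_reindexAlgEquiv, Matrix.det_fromBlocks_zero₂₁, h1]
  simp

end Block

section Model

variable {F : Type*} [Field F]

/-- The second factor `GL₂(F) → SL₅(F)`. -/
def emb : GL (Fin 2) F →* Matrix.SpecialLinearGroup (Fin 5) F where
  toFun A := ⟨bm 1 0 0 A.1 ((A⁻¹ : GL (Fin 2) F).1.det), by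
    rw [det_bm_diag, Matrix.det_one, one_mul, ← Matrix.det_mul, ← Units.val_mul, mul_inv_cancel,
      Units.val_one, Matrix.det_one]⟩
  map_one' := Subtype.ext (by
    change bm _ _ _ _ _ = 1
    rw [inv_one, Units.val_one, Matrix.det_one, bm_one])
  map_mul' A B := Subtype.ext (by
    change bm _ _ _ _ _ = bm _ _ _ _ _ * bm _ _ _ _ _
    rw [bm_mul, bm_inj]
    refine ⟨⟨by simp, by simp, by simp, by simp⟩, ?_⟩
    rw [_root_.mul_inv_rev, Units.val_mul, Matrix.det_mul, mul_comm])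

theorem emb_coe (A : GL (Fin 2) F) : (emb A).1 = bm 1 0 0 A.1 ((A⁻¹ : GL (Fin 2) F).1.det) := rfl

/-- The swap. -/
def sw : Matrix.SpecialLinearGroup (Fin 5) F := ⟨bm 0 1 1 0 1, det_bm_swap⟩

theorem sw_coe : (sw : Matrix.SpecialLinearGroup (Fin 5) F).1 = bm 0 1 1 0 1 := rfl

theorem sw_sw : (sw : Matrix.SpecialLinearGroup (Fin 5) F) * sw = 1 := by
  apply Subtype.ext
  change bm _ _ _ _ _ * bm _ _ _ _ _ = 1
  rw [bm_mul, ← bm_one, bm_inj]
  simp

theorem sw_emb (A : GL (Fin 2) F) : (sw * emb A * sw).1 = bm A.1 0 0 1 ((A⁻¹ : GL (Fin 2) F).1.det) := by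
  change bm _ _ _ _ _ * bm _ _ _ _ _ * bm _ _ _ _ _ = _
  rw [bm_mul, bm_mul, bm_inj]
  simp

theorem rel_emb : Rel (emb : GL (Fin 2) F →* _) sw where
  ww := sw_sw
  comm A B := by
    apply Subtype.ext
    change (sw * emb A * sw).1 * (emb B).1 = (emb B).1 * (sw * emb A * sw).1
    rw [sw_emb, emb_coe, bm_mul, bm_mul, bm_inj]
    simp [mul_comm]

theorem nf_emb_false (A B : GL (Fin 2) F) : (nf emb sw A B false).1 =
    bm A.1 0 0 B.1 ((A⁻¹ : GL (Fin 2) F).1.det * (B⁻¹ : GL (Fin 2) F).1.det) := by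
  rw [nf_false, Matrix.SpecialLinearGroup.coe_mul, sw_emb, emb_coe, bm_mul, bm_inj]
  simp

theorem nf_emb_true (A B : GL (Fin 2) F) : (nf emb sw A B true).1 =
    bm 0 A.1 B.1 0 ((A⁻¹ : GL (Fin 2) F).1.det * (B⁻¹ : GL (Fin 2) F).1.det) := by
  rw [nf_true, Matrix.SpecialLinearGroup.coe_mul, Matrix.SpecialLinearGroup.coe_mul, sw_emb, emb_coe, bm_mul,
    sw_coe, bm_mul, bm_inj]
  simp

theorem nf_emb_inj {A B A' B' : GL (Fin 2) F} {e e' : Bool} (h : nf emb sw A B e = nf emb sw A' B' e') :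
    A = A' ∧ B = B' ∧ e = e' := by
  have h1 := congrArg Subtype.val h
  have hne : ∀ A : GL (Fin 2) F, (A : Matrix (Fin 2) (Fin 2) F) ≠ 0 := by
    intro A hA
    have h2 := A.mul_inv
    rw [hA, Matrix.zero_mul] at h2
    exact zero_ne_one h2
  cases e <;> cases e'
  · rw [nf_emb_false, nf_emb_false, bm_inj] at h1
    exact ⟨Units.ext h1.1.1, Units.ext h1.1.2.2.2, rfl⟩
  · rw [nf_emb_false, nf_emb_true, bm_inj] at h1
    exact absurd h1.1.1 (hne A)
  · rw [nf_emb_true, nf_emb_false, bm_inj] at h1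
    exact absurd h1.1.1.symm (hne A')
  · rw [nf_emb_true, nf_emb_true, bm_inj] at h1
    exact ⟨Units.ext h1.1.2.1, Units.ext h1.1.2.2.1, rfl⟩

/-! ### orders -/

theorem card_of_inj {D S : Type*} [Group D] [Group S] [Finite D] {φ : D →* S} {w : S} (h : Rel φ w)
    (hinj : ∀ a b e a' b' e', nf φ w a b e = nf φ w a' b' e' → a = a' ∧ b = b' ∧ e = e') :
    Nat.card (closure (Set.range φ ∪ {w})) = 2 * Nat.card D ^ 2 := by
  have hw : w ∈ closure (Set.range φ ∪ {w}) := Subgroup.subset_closure (Or.inr rfl)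
  have hφ : ∀ a, φ a ∈ closure (Set.range φ ∪ {w}) := fun a => Subgroup.subset_closure (Or.inl ⟨a, rfl⟩)
  have hm : ∀ a b e, nf φ w a b e ∈ closure (Set.range φ ∪ {w}) := by
    intro a b e
    have h1 : w * φ a * w * φ b ∈ closure (Set.range φ ∪ {w}) :=
      Subgroup.mul_mem _ (Subgroup.mul_mem _ (Subgroup.mul_mem _ hw (hφ a)) hw) (hφ b)
    cases e
    · rw [nf_false]; exact h1
    · rw [nf_true]; exact Subgroup.mul_mem _ h1 hw
  rw [← card_prod_bool]
  refine (Nat.card_congr (Equiv.ofBijective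
    (fun p : D × D × Bool => (⟨nf φ w p.1 p.2.1 p.2.2, hm _ _ _⟩ : closure (Set.range φ ∪ {w}))) ⟨?_, ?_⟩)).symm
  · rintro ⟨a, b, e⟩ ⟨a', b', e'⟩ hab
    obtain ⟨rfl, rfl, rfl⟩ := hinj _ _ _ _ _ _ (congrArg Subtype.val hab)
    rfl
  · rintro ⟨g, hg⟩
    obtain ⟨a, b, e, rfl⟩ := h.exists_nf hg
    exact ⟨(a, b, e), rfl⟩

theorem card_map_of_inj {A B : Type*} [Group A] [Group B] (f : A →* B) (N : Subgroup A)
    (h : ∀ g ∈ N, f g = 1 → g = 1) : Nat.card (N.map f) = Nat.card N := by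
  have h1 : Function.Injective (f.comp N.subtype) := by
    rw [injective_iff_map_eq_one]
    rintro ⟨g, hg⟩ h2
    exact Subtype.ext (h g hg h2)
  have h2 : (f.comp N.subtype).range = N.map f := by
    rw [MonoidHom.range_comp, range_subtype]
  rw [← h2]
  exact (Nat.card_congr (MonoidHom.ofInjective h1).toEquiv).symm

theorem isRel_comp {D D' S S' : Type*} [Group D] [Group D'] [Group S] [Group S'] {φ : D →* S} {w : S}
    (h : Rel φ w) (g : D' →* D) (f : S →* S') : Rel (f.comp (φ.comp g)) (f w) where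
  ww := by rw [← map_mul, h.ww, map_one]
  comm a b := by
    have h1 := congrArg f (h.comm (g a) (g b))
    rw [map_mul, map_mul, map_mul, map_mul, map_mul, map_mul] at h1
    exact h1

/-- The projection. -/
abbrev pr : Matrix.SpecialLinearGroup (Fin 5) F →* Matrix.ProjectiveSpecialLinearGroup (Fin 5) F :=
  QuotientGroup.mk' (center (Matrix.SpecialLinearGroup (Fin 5) F))

theorem eq_one_of_pr {g : Matrix.SpecialLinearGroup (Fin 5) F} (h : pr g = 1) {m : ℕ} (hg : g ^ (2 ^ m) = 1) :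
    g = 1 := by
  have h1 : g ∈ center (Matrix.SpecialLinearGroup (Fin 5) F) := (QuotientGroup.eq_one_iff g).1 h
  obtain ⟨r, hr5, hr⟩ := Matrix.SpecialLinearGroup.mem_center_iff.1 h1
  rw [Fintype.card_fin] at hr5
  have h5 : g ^ 5 = 1 := by
    apply Subtype.ext
    rw [Matrix.SpecialLinearGroup.coe_pow, ← hr, ← map_pow, hr5, map_one]
    rfl
  have h6 : orderOf g ∣ 5 := orderOf_dvd_of_pow_eq_one h5
  have h7 : orderOf g ∣ 2 ^ m := orderOf_dvd_of_pow_eq_one hg
  have h8 : orderOf g = 1 := Nat.eq_one_of_dvd_coprimes (Nat.Coprime.pow_right _ (by norm_num)) h6 h7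
  exact orderOf_eq_one_iff.1 h8

end Model

section Card

variable {F : Type*} [Field F] [Fintype F]

/-- The order of `PSL₅(q)` in terms of the order of `GL₂(q)`. -/
theorem card_psl (hF : Odd (Fintype.card F)) : ∃ g c, Odd g ∧ Odd c ∧
    g * Nat.card (Matrix.ProjectiveSpecialLinearGroup (Fin 5) F) = 2 * Nat.card (GL (Fin 2) F) ^ 2 * c := by
  have h1 := Cfsg.Agent.S0243.result (F := F) rfl 5 (by norm_num)
  have h2 := Matrix.card_GL_field (𝔽 := F) (n := 2)
  obtain ⟨b, hb⟩ := hF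
  obtain ⟨q, hq⟩ : ∃ q, q = Fintype.card F := ⟨_, rfl⟩
  rw [← hq] at h1 h2 hb
  have hq1 : 1 < q := by rw [hq]; exact Fintype.one_lt_card
  have hbpos : 0 < b := by omega
  obtain ⟨a, ha⟩ : ∃ a, q = a + 1 := ⟨q - 1, by omega⟩
  have ha2 : a = 2 * b := by omega
  rw [Fin.prod_univ_five] at h1
  rw [Fin.prod_univ_two] at h2
  have v3 : ((3 : Fin 5) : ℕ) = 3 := rfl
  have v4 : ((4 : Fin 5) : ℕ) = 4 := rfl
  have v2 : ((2 : Fin 5) : ℕ) = 2 := rfl
  simp only [Fin.val_zero, Fin.val_one, pow_zero, pow_one, v2, v3, v4] at h1 h2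
  set N := Nat.card (Matrix.ProjectiveSpecialLinearGroup (Fin 5) F) with hN
  set M := Nat.card (GL (Fin 2) F) with hM
  have e0 : q - 1 = a := by omega
  have e5 : q ^ 5 - 1 = a * (q ^ 4 + q ^ 3 + q ^ 2 + q + 1) := by
    apply Nat.sub_eq_of_eq_add
    rw [ha]; ring
  have e4 : q ^ 5 - q = q * (a * (q + 1) * (q ^ 2 + 1)) := by
    apply Nat.sub_eq_of_eq_add
    rw [ha]; ring
  have e3 : q ^ 5 - q ^ 2 = q ^ 2 * (a * (q ^ 2 + q + 1)) := by
    apply Nat.sub_eq_of_eq_add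
    rw [ha]; ring
  have e2 : q ^ 5 - q ^ 3 = q ^ 3 * (a * (q + 1)) := by
    apply Nat.sub_eq_of_eq_add
    rw [ha]; ring
  have e1 : q ^ 5 - q ^ 4 = q ^ 4 * a := by
    apply Nat.sub_eq_of_eq_add
    rw [ha]; ring
  have f1 : q ^ 2 - 1 = a * (q + 1) := by
    apply Nat.sub_eq_of_eq_add
    rw [ha]; ring
  have f2 : q ^ 2 - q = q * a := by
    apply Nat.sub_eq_of_eq_add
    rw [ha]; ring
  rw [e0, e1, e2, e3, e4, e5] at h1
  rw [f1, f2] at h2
  have hqo : Odd q := ⟨b, hb⟩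
  have e6 : q ^ 2 + 1 = 2 * (2 * (b * b + b) + 1) := by
    rw [hb]; ring
  refine ⟨Nat.gcd 5 a, q ^ 8 * (2 * (b * b + b) + 1) * (q ^ 2 + q + 1) * (q ^ 4 + q ^ 3 + q ^ 2 + q + 1), ?_, ?_, ?_⟩
  · have h5 : Nat.gcd 5 a ∣ 5 := Nat.gcd_dvd_left 5 a
    exact Odd.of_dvd_nat (by decide) h5
  · refine ((hqo.pow.mul ⟨_, rfl⟩).mul ?_).mul ?_
    · exact ⟨2 * b * b + 3 * b + 1, by rw [hb]; ring⟩
    · have h3 : Even (q ^ 4 + q ^ 3) := (hqo.pow (n := 4)).add_odd (hqo.pow (n := 3))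
      have h4 : Even (q ^ 2 + q) := (hqo.pow (n := 2)).add_odd hqo
      have h5 : q ^ 4 + q ^ 3 + q ^ 2 + q + 1 = (q ^ 4 + q ^ 3 + (q ^ 2 + q)) + 1 := by ring
      rw [h5]
      exact (h3.add h4).add_one
  · have hapos : 0 < a := by omega
    apply Nat.eq_of_mul_eq_mul_left hapos
    have h3 : a * (Nat.gcd 5 a * N) = Nat.gcd 5 a * (a * N) := by ring
    rw [h3, h1, h2, e6]
    ring

/-- The 2-part of the order of `PSL₅(q)`. -/
theorem factorization_psl (hF : Odd (Fintype.card F)) (W : Sylow 2 (GL (Fin 2) F)) :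
    2 * Nat.card W ^ 2 =
      2 ^ (Nat.card (Matrix.ProjectiveSpecialLinearGroup (Fin 5) F)).factorization 2 := by
  classical
  obtain ⟨g, c, hg, hc, h⟩ := card_psl hF
  have hN : Nat.card (Matrix.ProjectiveSpecialLinearGroup (Fin 5) F) ≠ 0 := Nat.card_pos.ne'
  have hM : Nat.card (GL (Fin 2) F) ≠ 0 := Nat.card_pos.ne'
  have h1 : (g * Nat.card (Matrix.ProjectiveSpecialLinearGroup (Fin 5) F)).factorization 2 =
      (2 * Nat.card (GL (Fin 2) F) ^ 2 * c).factorization 2 := by rw [h]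
  have hodd : ∀ n : ℕ, Odd n → n.factorization 2 = 0 := by
    intro n hn
    apply Nat.factorization_eq_zero_of_not_dvd
    intro h2
    exact (Nat.not_even_iff_odd.2 hn) (even_iff_two_dvd.2 h2)
  rw [Nat.factorization_mul hg.pos.ne' hN, Nat.factorization_mul (by positivity) hc.pos.ne',
    Nat.factorization_mul (by norm_num) (by positivity), Nat.factorization_pow] at h1
  simp only [Finsupp.coe_add, Pi.add_apply, Finsupp.coe_smul, Pi.smul_apply, smul_eq_mul, hodd g hg,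
    hodd c hc, zero_add, add_zero, Nat.Prime.factorization_self Nat.prime_two] at h1
  rw [h1, W.card_eq_multiplicity, pow_add, pow_one, pow_mul']

/-- The model in `PSL₅(q)`. -/
theorem exists_model (W : Sylow 2 (GL (Fin 2) F)) :
    ∃ (ψ : W →* Matrix.ProjectiveSpecialLinearGroup (Fin 5) F) (v : Matrix.ProjectiveSpecialLinearGroup (Fin 5) F),
      Rel ψ v ∧ Nat.card (closure (Set.range ψ ∪ {v})) = 2 * Nat.card W ^ 2 := by
  have h0 : Rel (emb.comp ((W : Subgroup (GL (Fin 2) F)).subtype)) (sw : Matrix.SpecialLinearGroup (Fin 5) F) :=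
    isRel_comp rel_emb (W : Subgroup (GL (Fin 2) F)).subtype (MonoidHom.id _)
  have h1 : Nat.card (closure (Set.range (emb.comp ((W : Subgroup (GL (Fin 2) F)).subtype)) ∪ {sw})) =
      2 * Nat.card W ^ 2 := by
    refine card_of_inj h0 ?_
    rintro a b e a' b' e' hab
    have h2 : nf emb sw (a : GL (Fin 2) F) b e = nf emb sw (a' : GL (Fin 2) F) b' e' := hab
    obtain ⟨h3, h4, h5⟩ := nf_emb_inj h2
    exact ⟨Subtype.ext h3, Subtype.ext h4, h5⟩
  refine ⟨pr.comp (emb.comp ((W : Subgroup (GL (Fin 2) F)).subtype)), pr sw,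
    isRel_comp rel_emb (W : Subgroup (GL (Fin 2) F)).subtype pr, ?_⟩
  have h2 : Set.range (pr.comp (emb.comp ((W : Subgroup (GL (Fin 2) F)).subtype))) ∪
      {pr (sw : Matrix.SpecialLinearGroup (Fin 5) F)} =
      pr '' (Set.range (emb.comp ((W : Subgroup (GL (Fin 2) F)).subtype)) ∪ {sw}) := by
    rw [Set.image_union, ← Set.range_comp, Set.image_singleton]
    rfl
  rw [h2, ← MonoidHom.map_closure, card_map_of_inj, h1]
  intro g hg hg1
  obtain ⟨m, hm⟩ := IsPGroup.iff_card.1 W.isPGroup'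
  refine eq_one_of_pr hg1 (m := 1 + m * 2) ?_
  have h3 : (⟨g, hg⟩ : closure (Set.range (emb.comp ((W : Subgroup (GL (Fin 2) F)).subtype)) ∪ {sw})) ^
      (2 ^ (1 + m * 2)) = 1 := by
    have h4 := pow_card_eq_one' (x := (⟨g, hg⟩ : closure (Set.range (emb.comp
      ((W : Subgroup (GL (Fin 2) F)).subtype)) ∪ {sw})))
    rw [h1, hm] at h4
    rw [show 2 ^ (1 + m * 2) = 2 * (2 ^ m) ^ 2 by rw [pow_add, pow_one, pow_mul]]
    exact h4
  exact congrArg Subtype.val h3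

/-- **Sylow 2-subgroups of `PSL₅(q)`, `q` odd, are `W wr 2`**, `W` a Sylow 2-subgroup of `GL₂(q)`. -/
theorem sylOf_psl (hF : Odd (Fintype.card F)) (P : Sylow 2 (GL (Fin 2) F)) {S W : Type*} [Group S] [Group W]
    [Finite S] (f : W ≃* P) {φ : W →* S} {w : S} (h : Rel φ w) (hgen : closure (Set.range φ ∪ {w}) = ⊤)
    (hc : Nat.card S = 2 * Nat.card W ^ 2) : SylOf S (Matrix.ProjectiveSpecialLinearGroup (Fin 5) F) := by
  obtain ⟨ψ, v, h1, h2⟩ := exists_model P
  have h3 : Nat.card W = Nat.card P := Nat.card_congr f.toEquiv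
  have h4 : Rel (φ.comp f.symm.toMonoidHom) w := isRel_comp h f.symm.toMonoidHom (MonoidHom.id _)
  refine sylOf_of_rel h4 ?_ (by rw [hc, h3]) h1 h2 (factorization_psl hF P)
  rw [← hgen]
  congr 2
  exact (f.symm.surjective.range_comp φ)

/-- Every Sylow 2-subgroup of `PSL₅(q)`, `q` odd, is `W wr 2`. -/
theorem exists_rel_sylow (hF : Odd (Fintype.card F)) (W : Sylow 2 (GL (Fin 2) F))
    (P : Sylow 2 (Matrix.ProjectiveSpecialLinearGroup (Fin 5) F)) :
    ∃ (φ : W →* P) (w : P), Rel φ w ∧ closure (Set.range φ ∪ {w}) = ⊤ ∧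
      Nat.card P = 2 * Nat.card W ^ 2 := by
  obtain ⟨ψ, v, h1, h2⟩ := exists_model W
  obtain ⟨ψ', v', h3, h4⟩ := exists_rel h1
  let Q : Sylow 2 (Matrix.ProjectiveSpecialLinearGroup (Fin 5) F) :=
    Sylow.ofCard (closure (Set.range ψ ∪ {v})) (by rw [h2, factorization_psl hF W])
  let e : ↥(closure (Set.range ψ ∪ {v})) ≃* P := Q.equiv P
  refine ⟨e.toMonoidHom.comp ψ', e v', isRel_comp h3 (MonoidHom.id _) e.toMonoidHom, ?_, ?_⟩
  · have h5 : Set.range (e.toMonoidHom.comp ψ') ∪ {e v'} = e.toMonoidHom '' (Set.range ψ' ∪ {v'}) := by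
      rw [Set.image_union, ← Set.range_comp, Set.image_singleton]
      rfl
    rw [h5, ← MonoidHom.map_closure, h4, ← MonoidHom.range_eq_map]
    exact MonoidHom.range_eq_top.2 e.surjective
  · rw [← h2]
    exact (Nat.card_congr e.toEquiv).symm

end Card

end Cfsg.Agent.GHTypes.LFiveMat
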