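import Cfsg.Agent.GHTypes.WrTwo
import Cfsg.Agent.GHTypes.Prime
import Cfsg.Agent.LFourA.SylPsl
import Cfsg.Agent.GH.Defs

/-!
# Recognition of the 2-groups of type `PSL₄(q)`, `q ≡ 3 mod 4`

* `typeL4_of_wreath`: `S = D wr 2`, `D` dihedral of order `8 * 2 ^ k`.
* `typeL4_of_rel`: `S = R⟨x, t⟩`, `R = ⟨r₁, y₁⟩ * ⟨r₂, y₂⟩` the central product of two generalized quaternion
  groups of order `2 ^ (n + 3)`, `x² = r₁ r₂`, `[x, rᵢ] = 1`, `x yᵢ x⁻¹ = rᵢ yᵢ`, `t` an involution interchanging the factors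
  and centralising `x`.
-/

set_option autoImplicit false

open Subgroup

namespace Cfsg.Agent.GHTypes.LFour

open DihedralGroup Cfsg.Agent.LFourA.Model Cfsg.Agent.LFourA.SylDih Cfsg.Agent.GHTypes.WrTwo
  Cfsg.Agent.GH.Defs

/-! ### from the coordinates `DWr` to the relations -/

theorem rel_of_dwr {G : Type*} [Group G] {S : Subgroup G} {k : ℕ} {f : D k → D k → G} {w : G}
    (h : DWr S k f w) :
    ∃ (φ : D k →* S) (v : S), Rel φ v ∧ closure (Set.range φ ∪ {v}) = ⊤ ∧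
      Nat.card S = 2 * Nat.card (D k) ^ 2 := by
  let φ : D k →* S :=
    { toFun := fun b => ⟨f 1 b, Cfsg.Agent.LFourA.Base.f_mem h 1 b⟩
      map_one' := Subtype.ext (Cfsg.Agent.LFourA.Base.f_one h)
      map_mul' := fun a b => Subtype.ext (by
        change f 1 (a * b) = f 1 a * f 1 b
        rw [h.f_mul, one_mul]) }
  let v : S := ⟨w, Cfsg.Agent.LFourA.Base.w_mem h⟩
  have hw : ∀ a : D k, ((v * φ a * v : S) : G) = f a 1 := by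
    intro a
    change w * f 1 a * w = f a 1
    rw [h.w_f, mul_assoc, h.w_w, mul_one]
  refine ⟨φ, v, ⟨Subtype.ext h.w_w, ?_⟩, ?_, ?_⟩
  · intro a b
    apply Subtype.ext
    change ((v * φ a * v : S) : G) * f 1 b = f 1 b * ((v * φ a * v : S) : G)
    rw [hw, h.f_mul, h.f_mul, mul_one, mul_one, one_mul, one_mul]
  · rw [eq_top_iff]
    rintro ⟨g, hg⟩ -
    have hv : v ∈ closure (Set.range φ ∪ {v}) := subset_closure (Or.inr rfl)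
    have hφ : ∀ a, φ a ∈ closure (Set.range φ ∪ {v}) := fun a => subset_closure (Or.inl ⟨a, rfl⟩)
    have hff : ∀ a b, f a b = ((v * φ a * v * φ b : S) : G) := by
      intro a b
      rw [coe_mul, hw]
      change f a b = f a 1 * f 1 b
      rw [h.f_mul, mul_one, one_mul]
    have hm : ∀ a b, v * φ a * v * φ b ∈ closure (Set.range φ ∪ {v}) := fun a b =>
      Subgroup.mul_mem _ (Subgroup.mul_mem _ (Subgroup.mul_mem _ hv (hφ a)) hv) (hφ b)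
    rcases (h.mem_iff g).1 hg with ⟨a, b, hab⟩ | ⟨a, b, hab⟩
    · have h1 : (⟨g, hg⟩ : S) = v * φ a * v * φ b := Subtype.ext (hab.trans (hff a b))
      rw [h1]
      exact hm a b
    · have h1 : (⟨g, hg⟩ : S) = v * φ a * v * φ b * v := Subtype.ext (hab.trans (by
        rw [hff]; rfl))
      rw [h1]
      exact Subgroup.mul_mem _ (hm a b) hv
  · rw [Cfsg.Agent.LFourA.Base.card_S h, card_D, mul_pow, ← pow_mul, mul_comm k 2, pow_mul]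
    ring

/-- **`D wr 2` is of type `PSL₄(q)`**, `q ≡ 3 mod 4`. -/
theorem typeL4_of_wreath {S : Type*} [Group S] [Finite S] {k : ℕ} {φ : D k →* S} {w : S}
    (h : Rel φ w) (hgen : closure (Set.range φ ∪ {w}) = ⊤)
    (hc : Nat.card S = 2 * Nat.card (D k) ^ 2) : TypeL4 S := by
  obtain ⟨p, m, hp, hpm, hm⟩ := Prime.exists_prime k
  have : Fact p.Prime := ⟨hp⟩
  have hk : 0 < 2 ^ k := by positivity
  have hcard : Fintype.card (ZMod p) = p := ZMod.card p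
  have h4 : Fintype.card (ZMod p) % 4 = 3 := by
    rw [hcard]
    have h5 : p + 1 = 4 * (2 ^ k * m) := by rw [hpm]; ring
    omega
  refine ⟨ZMod p, inferInstance, inferInstance, ?_, ?_⟩
  · rw [Nat.odd_iff]
    omega
  · obtain ⟨P⟩ : Nonempty (Sylow 2 (Matrix.ProjectiveSpecialLinearGroup (Fin 4) (ZMod p))) := inferInstance
    obtain ⟨f, v, hf⟩ := Cfsg.Agent.LFourA.SylPsl.exists_dwr_psl h4 (k := k) (m := m)
      (by rw [hcard]; exact hpm) hm P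
    obtain ⟨ψ, v', h', hgen', hc'⟩ := rel_of_dwr hf
    obtain ⟨e, -, -⟩ := h.exists_equiv h' hgen hgen' hc hc'
    exact ⟨P, ⟨e⟩⟩

/-! ### the second form -/

section

variable {S : Type*} [Group S] {n : ℕ} {z r₁ y₁ r₂ y₂ x t : S}

/-- The relations of `R⟨x, t⟩`. -/
structure RelFour (n : ℕ) (z r₁ y₁ r₂ y₂ x t : S) : Prop where
  zz : z * z = 1
  r₁z : r₁ ^ (2 ^ (n + 1)) = z
  r₂z : r₂ ^ (2 ^ (n + 1)) = z
  y₁y₁ : y₁ * y₁ = z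
  y₂y₂ : y₂ * y₂ = z
  y₁r₁ : y₁ * r₁ = r₁⁻¹ * y₁
  y₂r₂ : y₂ * r₂ = r₂⁻¹ * y₂
  r₁r₂ : r₁ * r₂ = r₂ * r₁
  r₁y₂ : r₁ * y₂ = y₂ * r₁
  y₁r₂ : y₁ * r₂ = r₂ * y₁
  y₁y₂ : y₁ * y₂ = y₂ * y₁
  xx : x * x = r₁ * r₂
  xr₁ : x * r₁ = r₁ * x
  xr₂ : x * r₂ = r₂ * x
  xy₁ : x * y₁ = r₁ * y₁ * x
  xy₂ : x * y₂ = r₂ * y₂ * x
  tt : t * t = 1
  tr : t * r₁ = r₂ * t
  ty : t * y₁ = y₂ * t
  tx : t * x = x * t

namespace RelFour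

variable (h : RelFour n z r₁ y₁ r₂ y₂ x t)

include h

theorem t_inv : t⁻¹ = t := inv_eq_of_mul_eq_one_left h.tt

theorem tr' : t * r₂ = r₁ * t := by
  have h1 : r₂ = t * r₁ * t := by
    rw [h.tr, mul_assoc, h.tt, mul_one]
  rw [h1, ← mul_assoc, ← mul_assoc, h.tt, one_mul]

theorem ty' : t * y₂ = y₁ * t := by
  have h1 : y₂ = t * y₁ * t := by
    rw [h.ty, mul_assoc, h.tt, mul_one]
  rw [h1, ← mul_assoc, ← mul_assoc, h.tt, one_mul]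

theorem a₁a₁ : r₁ ^ (2 ^ n) * r₁ ^ (2 ^ n) = z := by
  rw [← pow_add, ← h.r₁z]
  congr 1
  ring

theorem a₂a₂ : r₂ ^ (2 ^ n) * r₂ ^ (2 ^ n) = z := by
  rw [← pow_add, ← h.r₂z]
  congr 1
  ring

/-- `ρ = r₁ x⁻¹`. -/
theorem rho_pow : (r₁ * x⁻¹) ^ (4 * 2 ^ n) = 1 := by
  have hc : Commute r₁ x⁻¹ := (Commute.inv_right (show Commute r₁ x from h.xr₁.symm))
  have hc2 : Commute r₁ r₂⁻¹ := Commute.inv_right h.r₁r₂
  have h1 : (r₁ * x⁻¹) ^ 2 = r₁ * r₂⁻¹ := by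
    rw [hc.mul_pow, inv_pow, sq x, h.xx, mul_inv_rev, sq]
    calc r₁ * r₁ * (r₂⁻¹ * r₁⁻¹) = r₁ * (r₁ * r₂⁻¹) * r₁⁻¹ := by group
      _ = r₁ * (r₂⁻¹ * r₁) * r₁⁻¹ := by rw [hc2.eq]
      _ = r₁ * r₂⁻¹ := by group
  rw [show 4 * 2 ^ n = 2 * 2 ^ (n + 1) by ring, pow_mul, h1, hc2.mul_pow, h.r₁z, inv_pow, h.r₂z,
    mul_inv_cancel]

theorem t_rho : t * (r₁ * x⁻¹) * t = (r₁ * x⁻¹)⁻¹ := by
  have h1 : SemiconjBy t (r₁ * x⁻¹) (r₂ * x⁻¹) :=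
    SemiconjBy.mul_right h.tr (SemiconjBy.inv_right h.tx)
  have h2 : r₂ * x⁻¹ = (r₁ * x⁻¹)⁻¹ := by
    rw [mul_inv_rev, inv_inv, mul_inv_eq_iff_eq_mul]
    have h3 : x * r₁⁻¹ * x = x * x * r₁⁻¹ := by
      have : Commute r₁⁻¹ x := Commute.inv_left h.xr₁.symm
      rw [mul_assoc, this.eq, ← mul_assoc]
    rw [h3, h.xx, h.r₁r₂, mul_inv_cancel_right]
  rw [← h2, h1.eq, mul_assoc, h.tt, mul_one]

theorem y₁_a₂ : SemiconjBy y₁ (r₂ ^ (2 ^ n)) (r₂ ^ (2 ^ n)) :=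
  SemiconjBy.pow_right (h.y₁r₂ : SemiconjBy y₁ r₂ r₂) _

theorem y₁_a₁ : SemiconjBy y₁ (r₁ ^ (2 ^ n)) (r₁ ^ (2 ^ n))⁻¹ := by
  rw [← inv_pow]
  exact SemiconjBy.pow_right (h.y₁r₁ : SemiconjBy y₁ r₁ r₁⁻¹) _

theorem y₂_a₂ : SemiconjBy y₂ (r₂ ^ (2 ^ n)) (r₂ ^ (2 ^ n))⁻¹ := by
  rw [← inv_pow]
  exact SemiconjBy.pow_right (h.y₂r₂ : SemiconjBy y₂ r₂ r₂⁻¹) _

theorem ww : y₁ * r₂ ^ (2 ^ n) * (y₁ * r₂ ^ (2 ^ n)) = 1 := by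
  calc y₁ * r₂ ^ (2 ^ n) * (y₁ * r₂ ^ (2 ^ n)) = y₁ * (r₂ ^ (2 ^ n) * y₁) * r₂ ^ (2 ^ n) := by group
    _ = y₁ * (y₁ * r₂ ^ (2 ^ n)) * r₂ ^ (2 ^ n) := by rw [h.y₁_a₂.eq]
    _ = (y₁ * y₁) * (r₂ ^ (2 ^ n) * r₂ ^ (2 ^ n)) := by group
    _ = 1 := by rw [h.y₁y₁, h.a₂a₂, h.zz]

theorem y₁_x : SemiconjBy y₁ x (r₁⁻¹ * x) := by
  change y₁ * x = r₁⁻¹ * x * y₁
  rw [mul_assoc, h.xy₁]
  group

theorem y₂_x : SemiconjBy y₂ x (r₂⁻¹ * x) := by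
  change y₂ * x = r₂⁻¹ * x * y₂
  rw [mul_assoc, h.xy₂]
  group

theorem w_rho : SemiconjBy (y₁ * r₂ ^ (2 ^ n)) (r₁ * x⁻¹) x⁻¹ := by
  have h1 : SemiconjBy (r₂ ^ (2 ^ n)) (r₁ * x⁻¹) (r₁ * x⁻¹) :=
    SemiconjBy.mul_right (Commute.pow_left h.r₁r₂.symm _)
      (SemiconjBy.inv_right (Commute.pow_left (show Commute r₂ x from h.xr₂.symm) _))
  have h2 : SemiconjBy y₁ (r₁ * x⁻¹) (r₁⁻¹ * (r₁⁻¹ * x)⁻¹) :=
    SemiconjBy.mul_right h.y₁r₁ (SemiconjBy.inv_right h.y₁_x)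
  have h3 : r₁⁻¹ * (r₁⁻¹ * x)⁻¹ = x⁻¹ := by
    have : Commute x⁻¹ r₁ := Commute.inv_left h.xr₁
    rw [mul_inv_rev, inv_inv, this.eq, inv_mul_cancel_left]
  have h4 := SemiconjBy.mul_left h2 h1
  rw [h3] at h4
  exact h4

/-- The product `g = y₁ a₂ a₁⁻¹ y₂⁻¹`. -/
theorem w_t : SemiconjBy (y₁ * r₂ ^ (2 ^ n)) t
    (y₁ * r₂ ^ (2 ^ n) * ((r₁ ^ (2 ^ n))⁻¹ * y₂⁻¹) * t) := by
  change y₁ * r₂ ^ (2 ^ n) * t = y₁ * r₂ ^ (2 ^ n) * ((r₁ ^ (2 ^ n))⁻¹ * y₂⁻¹) * t * (y₁ * r₂ ^ (2 ^ n))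
  have h1 : SemiconjBy t (y₁ * r₂ ^ (2 ^ n)) (y₂ * r₁ ^ (2 ^ n)) :=
    SemiconjBy.mul_right h.ty (SemiconjBy.pow_right h.tr' _)
  rw [mul_assoc _ t, h1.eq]
  group

theorem gg : y₁ * r₂ ^ (2 ^ n) * ((r₁ ^ (2 ^ n))⁻¹ * y₂⁻¹) *
    (y₁ * r₂ ^ (2 ^ n) * ((r₁ ^ (2 ^ n))⁻¹ * y₂⁻¹)) = 1 := by
  set a₁ := r₁ ^ (2 ^ n) with ha₁
  set a₂ := r₂ ^ (2 ^ n) with ha₂
  have c1 : Commute a₁⁻¹ a₂ := Commute.inv_left (Commute.pow_pow h.r₁r₂ _ _)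
  have c2 : Commute y₁ a₂ := h.y₁_a₂
  have c3 : Commute a₁⁻¹ y₂⁻¹ := Commute.inv_inv (Commute.pow_left (show Commute r₁ y₂ from h.r₁y₂) _)
  have c4 : Commute y₁ y₂⁻¹ := Commute.inv_right h.y₁y₂
  have e1 : y₁ * a₂ * (a₁⁻¹ * y₂⁻¹) = (y₁ * a₁⁻¹) * (a₂ * y₂⁻¹) := by
    calc y₁ * a₂ * (a₁⁻¹ * y₂⁻¹) = y₁ * (a₂ * a₁⁻¹) * y₂⁻¹ := by group
      _ = _ := by rw [← c1.eq]; group
  have c5 : Commute (y₁ * a₁⁻¹) (a₂ * y₂⁻¹) :=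
    Commute.mul_left (Commute.mul_right c2 c4) (Commute.mul_right c1 c3)
  have e2 : (y₁ * a₁⁻¹) * (y₁ * a₁⁻¹) = z := by
    have h1 : a₁⁻¹ * y₁ = y₁ * a₁ := h.y₁_a₁.eq.symm
    calc (y₁ * a₁⁻¹) * (y₁ * a₁⁻¹) = y₁ * (a₁⁻¹ * y₁) * a₁⁻¹ := by group
      _ = y₁ * y₁ := by rw [h1]; group
      _ = z := h.y₁y₁
  have e3 : (a₂ * y₂⁻¹) * (a₂ * y₂⁻¹) = z := by
    have h1 : y₂ * a₂ = a₂⁻¹ * y₂ := h.y₂_a₂.eq
    have h2 : y₂⁻¹ * a₂ = a₂⁻¹ * y₂⁻¹ := by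
      have h3 : y₂ * a₂⁻¹ = a₂ * y₂ := by
        have := (SemiconjBy.inv_right h.y₂_a₂).eq
        rw [inv_inv] at this
        exact this
      rw [inv_mul_eq_iff_eq_mul, ← mul_assoc, h3, mul_inv_cancel_right]
    calc (a₂ * y₂⁻¹) * (a₂ * y₂⁻¹) = a₂ * (y₂⁻¹ * a₂) * y₂⁻¹ := by group
      _ = (y₂ * y₂)⁻¹ := by rw [h2]; group
      _ = z := by rw [h.y₂y₂]; exact inv_eq_of_mul_eq_one_left h.zz
  rw [e1]
  calc y₁ * a₁⁻¹ * (a₂ * y₂⁻¹) * (y₁ * a₁⁻¹ * (a₂ * y₂⁻¹)) =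
        y₁ * a₁⁻¹ * ((a₂ * y₂⁻¹) * (y₁ * a₁⁻¹)) * (a₂ * y₂⁻¹) := by group
    _ = y₁ * a₁⁻¹ * ((y₁ * a₁⁻¹) * (a₂ * y₂⁻¹)) * (a₂ * y₂⁻¹) := by rw [← c5.eq]
    _ = ((y₁ * a₁⁻¹) * (y₁ * a₁⁻¹)) * ((a₂ * y₂⁻¹) * (a₂ * y₂⁻¹)) := by group
    _ = 1 := by rw [e2, e3, h.zz]

theorem comm_t : Commute (y₁ * r₂ ^ (2 ^ n) * ((r₁ ^ (2 ^ n))⁻¹ * y₂⁻¹) * t) t := by
  have h1 : SemiconjBy t (y₁ * r₂ ^ (2 ^ n) * ((r₁ ^ (2 ^ n))⁻¹ * y₂⁻¹))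
      (y₂ * r₁ ^ (2 ^ n) * ((r₂ ^ (2 ^ n))⁻¹ * y₁⁻¹)) :=
    SemiconjBy.mul_right (SemiconjBy.mul_right h.ty (SemiconjBy.pow_right h.tr' _))
      (SemiconjBy.mul_right (SemiconjBy.inv_right (SemiconjBy.pow_right h.tr _))
        (SemiconjBy.inv_right h.ty'))
  have h2 : y₂ * r₁ ^ (2 ^ n) * ((r₂ ^ (2 ^ n))⁻¹ * y₁⁻¹) =
      y₁ * r₂ ^ (2 ^ n) * ((r₁ ^ (2 ^ n))⁻¹ * y₂⁻¹) := by
    have h3 := inv_eq_of_mul_eq_one_right h.gg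
    rw [← h3]
    group
  rw [h2] at h1
  exact Commute.symm (Commute.mul_right h1 (Commute.refl t))

theorem g_rho : SemiconjBy (y₁ * r₂ ^ (2 ^ n) * ((r₁ ^ (2 ^ n))⁻¹ * y₂⁻¹)) (r₁ * x⁻¹) (r₁ * x⁻¹)⁻¹ := by
  have a1 : SemiconjBy y₂⁻¹ r₁ r₁ := Commute.inv_left h.r₁y₂.symm
  have a2 : SemiconjBy y₂⁻¹ x (r₂⁻¹ * x) := by
    change y₂⁻¹ * x = r₂⁻¹ * x * y₂⁻¹
    rw [inv_mul_eq_iff_eq_mul]
    have h3 : SemiconjBy y₂ (r₂⁻¹ * x) (r₂⁻¹⁻¹ * (r₂⁻¹ * x)) :=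
      SemiconjBy.mul_right (SemiconjBy.inv_right h.y₂r₂) h.y₂_x
    rw [← mul_assoc, h3.eq]
    group
  have b1 : SemiconjBy ((r₁ ^ (2 ^ n))⁻¹) r₁ r₁ := Commute.inv_left (Commute.pow_left (Commute.refl r₁) _)
  have b2 : SemiconjBy ((r₁ ^ (2 ^ n))⁻¹) (r₂⁻¹ * x) (r₂⁻¹ * x) :=
    Commute.inv_left (Commute.pow_left (Commute.mul_right (Commute.inv_right h.r₁r₂) h.xr₁.symm) _)
  have c1 : SemiconjBy (r₂ ^ (2 ^ n)) r₁ r₁ := Commute.pow_left h.r₁r₂.symm _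
  have c2 : SemiconjBy (r₂ ^ (2 ^ n)) (r₂⁻¹ * x) (r₂⁻¹ * x) :=
    Commute.pow_left (Commute.mul_right (Commute.inv_right (Commute.refl _)) h.xr₂.symm) _
  have d1 : SemiconjBy y₁ r₁ r₁⁻¹ := h.y₁r₁
  have d2 : SemiconjBy y₁ (r₂⁻¹ * x) (r₂⁻¹ * (r₁⁻¹ * x)) :=
    SemiconjBy.mul_right (SemiconjBy.inv_right h.y₁r₂) h.y₁_x
  have e1 : r₂⁻¹ * (r₁⁻¹ * x) = x⁻¹ := by
    rw [← mul_assoc, ← mul_inv_rev, ← h.xx]
    group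
  rw [e1] at d2
  have f1 : SemiconjBy (y₁ * r₂ ^ (2 ^ n) * ((r₁ ^ (2 ^ n))⁻¹ * y₂⁻¹)) r₁ r₁⁻¹ :=
    SemiconjBy.mul_left (SemiconjBy.mul_left d1 c1) (SemiconjBy.mul_left b1 a1)
  have f2 : SemiconjBy (y₁ * r₂ ^ (2 ^ n) * ((r₁ ^ (2 ^ n))⁻¹ * y₂⁻¹)) x x⁻¹ :=
    SemiconjBy.mul_left (SemiconjBy.mul_left d2 c2) (SemiconjBy.mul_left b2 a2)
  have f3 := SemiconjBy.mul_right f1 (SemiconjBy.inv_right f2)
  have e2 : r₁⁻¹ * x⁻¹⁻¹ = (r₁ * x⁻¹)⁻¹ := by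
    have : Commute x r₁⁻¹ := Commute.inv_right h.xr₁
    rw [mul_inv_rev, inv_inv, this.eq]
  rw [e2] at f3
  exact f3

theorem comm_rho : Commute (y₁ * r₂ ^ (2 ^ n) * ((r₁ ^ (2 ^ n))⁻¹ * y₂⁻¹) * t) (r₁ * x⁻¹) := by
  have h1 : SemiconjBy t (r₁ * x⁻¹) (r₁ * x⁻¹)⁻¹ := by
    change t * (r₁ * x⁻¹) = (r₁ * x⁻¹)⁻¹ * t
    rw [← h.t_rho, mul_assoc, mul_assoc, h.tt, mul_one]
  have h2 := SemiconjBy.inv_right h.g_rho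
  rw [inv_inv] at h2
  exact SemiconjBy.mul_left h2 h1

/-- **The group `R⟨x, t⟩` is of type `PSL₄(q)`**, `q ≡ 3 mod 4`. -/
theorem typeL4 (hgen : closure {r₁, y₁, r₂, y₂, x, t} = ⊤) (hc : Nat.card S = 2 ^ (2 * n + 7)) :
    TypeL4 S := by
  have : Finite S := Nat.finite_of_card_ne_zero (by rw [hc]; positivity)
  have hρ := h.rho_pow
  have hwi : (y₁ * r₂ ^ (2 ^ n))⁻¹ = y₁ * r₂ ^ (2 ^ n) := inv_eq_of_mul_eq_one_left h.ww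
  obtain ⟨ρ, hρdef⟩ : ∃ ρ, ρ = r₁ * x⁻¹ := ⟨_, rfl⟩
  obtain ⟨w, hwdef⟩ : ∃ w, w = y₁ * r₂ ^ (2 ^ n) := ⟨_, rfl⟩
  obtain ⟨s, hsdef⟩ : ∃ s, s = y₁ * r₂ ^ (2 ^ n) * ((r₁ ^ (2 ^ n))⁻¹ * y₂⁻¹) * t := ⟨_, rfl⟩
  have hww := h.ww
  have htr := h.t_rho
  have hwr := h.w_rho
  have hwt := h.w_t
  have hct := h.comm_t
  have hcr := h.comm_rho
  rw [← hρdef] at hρ htr hwr hcr
  rw [← hwdef] at hww hwi hwr
  rw [← hsdef] at hwt hct hcr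
  rw [← hwdef] at hwt
  let φ : D n →* S := dih ρ t hρ h.tt htr
  have hφr : ∀ i, φ (r i) = ρ ^ i.val := fun i => rfl
  have hφs : ∀ i, φ (sr i) = t * ρ ^ i.val := fun i => rfl
  have c1 : Commute x⁻¹ ρ := by
    rw [hρdef]
    exact Commute.mul_right (Commute.inv_left h.xr₁) (Commute.refl _)
  have c2 : Commute x⁻¹ t := Commute.inv_left h.tx.symm
  have cr : ∀ b, Commute x⁻¹ (φ b) := by
    rintro (i | i)
    · rw [hφr]; exact c1.pow_right _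
    · rw [hφs]; exact c2.mul_right (c1.pow_right _)
  have cs : ∀ b, Commute s (φ b) := by
    rintro (i | i)
    · rw [hφr]; exact hcr.pow_right _
    · rw [hφs]; exact hct.mul_right (hcr.pow_right _)
  have hwφ : ∀ a, ∀ b, Commute (w * φ a * w) (φ b) := by
    rintro (i | i) b
    · have h1 : w * φ (r i) * w = x⁻¹ ^ i.val := by
        rw [hφr, (hwr.pow_right _).eq, mul_assoc, hww, mul_one]
      rw [h1]
      exact (cr b).pow_left _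
    · have h1 : w * φ (sr i) * w = s * x⁻¹ ^ i.val := by
        rw [hφs, (SemiconjBy.mul_right hwt (hwr.pow_right i.val)).eq, mul_assoc, hww, mul_one]
      rw [h1]
      exact (cs b).mul_left ((cr b).pow_left _)
  have hrel : Rel φ w := ⟨hww, fun a b => hwφ a b⟩
  refine typeL4_of_wreath hrel ?_ ?_
  · have hn : 1 < 4 * 2 ^ n := by
      have : 0 < 2 ^ n := by positivity
      omega
    have : Fact (1 < 4 * 2 ^ n) := ⟨hn⟩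
    have mρ : ρ ∈ closure (Set.range φ ∪ {w}) := by
      apply Subgroup.subset_closure
      refine Or.inl ⟨r 1, ?_⟩
      rw [hφr, ZMod.val_one, pow_one]
    have mt : t ∈ closure (Set.range φ ∪ {w}) := by
      apply Subgroup.subset_closure
      refine Or.inl ⟨sr 0, ?_⟩
      rw [hφs, ZMod.val_zero, pow_zero, mul_one]
    have mw : w ∈ closure (Set.range φ ∪ {w}) := subset_closure (Or.inr rfl)
    have mx : x ∈ closure (Set.range φ ∪ {w}) := by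
      have h1 : x = w⁻¹ * ρ⁻¹ * w := by
        have h2 := (SemiconjBy.inv_right hwr).eq
        rw [inv_inv] at h2
        rw [mul_assoc, eq_inv_mul_iff_mul_eq]
        have h3 : w * x = ρ⁻¹ * w := by
          have h4 : w * ρ⁻¹ * w = x := by rw [h2, mul_assoc, hww, mul_one]
          rw [← h4, ← mul_assoc, ← mul_assoc, hww, one_mul]
        exact h3
      rw [h1]
      exact Subgroup.mul_mem _ (Subgroup.mul_mem _ (Subgroup.inv_mem _ mw) (Subgroup.inv_mem _ mρ)) mw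
    have mr₁ : r₁ ∈ closure (Set.range φ ∪ {w}) := by
      have h1 : r₁ = ρ * x := by rw [hρdef]; group
      rw [h1]
      exact Subgroup.mul_mem _ mρ mx
    have mr₂ : r₂ ∈ closure (Set.range φ ∪ {w}) := by
      have h1 : r₂ = r₁⁻¹ * (x * x) := by rw [h.xx]; group
      rw [h1]
      exact Subgroup.mul_mem _ (Subgroup.inv_mem _ mr₁) (Subgroup.mul_mem _ mx mx)
    have my₁ : y₁ ∈ closure (Set.range φ ∪ {w}) := by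
      have h1 : y₁ = w * (r₂ ^ (2 ^ n))⁻¹ := by rw [hwdef]; group
      rw [h1]
      exact Subgroup.mul_mem _ mw (Subgroup.inv_mem _ (Subgroup.pow_mem _ mr₂ _))
    have my₂ : y₂ ∈ closure (Set.range φ ∪ {w}) := by
      have h1 : y₂ = t * y₁ * t := by rw [h.ty, mul_assoc, h.tt, mul_one]
      rw [h1]
      exact Subgroup.mul_mem _ (Subgroup.mul_mem _ mt my₁) mt
    rw [eq_top_iff, ← hgen, closure_le]
    rintro g (rfl | rfl | rfl | rfl | rfl | rfl)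
    · exact mr₁
    · exact my₁
    · exact mr₂
    · exact my₂
    · exact mx
    · exact mt
  · rw [hc, card_D, mul_pow, ← pow_mul, mul_comm n 2, pow_add]
    ring

end RelFour

end

end Cfsg.Agent.GHTypes.LFour
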