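import Mathlib

/-!
# Recognition of `D wr 2` from relations

`Rel φ w`: the group is generated by the image of `φ : D →* S` and by an involution `w` such that
`(w φ(a) w)` commutes with `φ(b)`.  Two such groups of order `2 * |D| ^ 2` are isomorphic.
-/

set_option autoImplicit false

open Subgroup

namespace Cfsg.Agent.GHTypes.WrTwo

/-! ### Goursat -/

/-- A subgroup of `S × T` which projects onto both factors and is not larger is the graph of an
isomorphism. -/
theorem equiv_of_graph {S T : Type*} [Group S] [Group T] [Finite S] [Finite T] (H : Subgroup (S × T))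
    (h1 : ∀ s, ∃ t, (s, t) ∈ H) (h2 : ∀ t, ∃ s, (s, t) ∈ H) (hc1 : Nat.card H ≤ Nat.card S)
    (hc2 : Nat.card H ≤ Nat.card T) : ∃ e : S ≃* T, ∀ s t, (s, t) ∈ H → e s = t := by
  let f : H →* S := (MonoidHom.fst S T).comp H.subtype
  let g : H →* T := (MonoidHom.snd S T).comp H.subtype
  have hf : Function.Surjective f := by
    intro s
    obtain ⟨t, ht⟩ := h1 s
    exact ⟨⟨(s, t), ht⟩, rfl⟩
  have hg : Function.Surjective g := by
    intro t
    obtain ⟨s, hs⟩ := h2 t
    exact ⟨⟨(s, t), hs⟩, rfl⟩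
  have hcf : Nat.card H = Nat.card S := le_antisymm hc1 (Nat.card_le_card_of_surjective f hf)
  have hcg : Nat.card H = Nat.card T := le_antisymm hc2 (Nat.card_le_card_of_surjective g hg)
  have hf' : Function.Bijective f := (Nat.bijective_iff_surjective_and_card f).2 ⟨hf, hcf⟩
  have hg' : Function.Bijective g := (Nat.bijective_iff_surjective_and_card g).2 ⟨hg, hcg⟩
  refine ⟨(MulEquiv.ofBijective f hf').symm.trans (MulEquiv.ofBijective g hg'), ?_⟩
  intro s t hst
  rw [MulEquiv.trans_apply]
  have h3 : (MulEquiv.ofBijective f hf').symm s = ⟨(s, t), hst⟩ := by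
    rw [MulEquiv.symm_apply_eq]
    rfl
  rw [h3]
  rfl

/-! ### wreath products -/

section

variable {D S T : Type*} [Group D] [Group S] [Group T]

/-- The relations of `D wr 2`. -/
structure Rel (φ : D →* S) (w : S) : Prop where
  ww : w * w = 1
  comm : ∀ a b, (w * φ a * w) * φ b = φ b * (w * φ a * w)

/-- Normal form. -/
def nf (φ : D →* S) (w : S) (a b : D) (e : Bool) : S := w * φ a * w * φ b * (if e then w else 1)

theorem conj_mul {w : S} (hw : w * w = 1) (x y : S) : w * (x * y) * w = (w * x * w) * (w * y * w) := by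
  calc w * (x * y) * w = w * x * 1 * y * w := by group
    _ = w * x * (w * w) * y * w := by rw [hw]
    _ = (w * x * w) * (w * y * w) := by group

theorem conj_conj {w : S} (hw : w * w = 1) (x : S) : w * (w * x * w) * w = x := by
  calc w * (w * x * w) * w = (w * w) * x * (w * w) := by group
    _ = x := by rw [hw, one_mul, mul_one]

variable {φ : D →* S} {w : S}

theorem nf_false (a b : D) : nf φ w a b false = w * φ a * w * φ b := by
  simp [nf]

theorem nf_true (a b : D) : nf φ w a b true = w * φ a * w * φ b * w := by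
  simp [nf]

theorem Rel.base_mul (h : Rel φ w) (a b a' b' : D) :
    w * φ a * w * φ b * (w * φ a' * w * φ b') = w * φ (a * a') * w * φ (b * b') := by
  rw [map_mul, map_mul, conj_mul h.ww]
  calc w * φ a * w * φ b * (w * φ a' * w * φ b') = w * φ a * w * (φ b * (w * φ a' * w)) * φ b' := by group
    _ = w * φ a * w * ((w * φ a' * w) * φ b) * φ b' := by rw [h.comm]
    _ = _ := by group

theorem Rel.w_base (h : Rel φ w) (a b : D) :
    w * (w * φ a * w * φ b) = w * φ b * w * φ a * w := by
  have h1 := h.comm b a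
  calc w * (w * φ a * w * φ b) = (w * w) * φ a * w * φ b := by group
    _ = φ a * w * φ b := by rw [h.ww, one_mul]
    _ = φ a * w * φ b * (w * w) := by rw [h.ww, mul_one]
    _ = φ a * (w * φ b * w) * w := by group
    _ = (w * φ b * w) * φ a * w := by rw [h1]
    _ = _ := by group

theorem Rel.nf_mul (h : Rel φ w) (a b a' b' : D) (e e' : Bool) :
    ∃ a'' b'' e'', nf φ w a b e * nf φ w a' b' e' = nf φ w a'' b'' e'' := by
  cases e <;> cases e'
  · exact ⟨a * a', b * b', false, by rw [nf_false, nf_false, nf_false, h.base_mul]⟩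
  · exact ⟨a * a', b * b', true, by
      rw [nf_false, nf_true, nf_true, ← h.base_mul]; group⟩
  · refine ⟨a * b', b * a', true, ?_⟩
    rw [nf_true, nf_false, nf_true]
    calc w * φ a * w * φ b * w * (w * φ a' * w * φ b') =
          w * φ a * w * φ b * (w * (w * φ a' * w * φ b')) := by group
      _ = w * φ a * w * φ b * (w * φ b' * w * φ a') * w := by rw [h.w_base]; group
      _ = _ := by rw [h.base_mul]
  · refine ⟨a * b', b * a', false, ?_⟩
    rw [nf_true, nf_true, nf_false]
    calc w * φ a * w * φ b * w * (w * φ a' * w * φ b' * w) =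
          w * φ a * w * φ b * (w * (w * φ a' * w * φ b')) * w := by group
      _ = w * φ a * w * φ b * (w * φ b' * w * φ a') * (w * w) := by rw [h.w_base]; group
      _ = _ := by rw [h.base_mul, h.ww, mul_one]

theorem Rel.nf_inv (h : Rel φ w) (a b : D) (e : Bool) :
    ∃ a' b' e', (nf φ w a b e)⁻¹ = nf φ w a' b' e' := by
  have h1 : ∀ a b : D, w * φ a * w * φ b * (w * φ a⁻¹ * w * φ b⁻¹) = 1 := by
    intro a b
    rw [h.base_mul, mul_inv_cancel, mul_inv_cancel, map_one, mul_one, mul_one, h.ww]
  cases e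
  · refine ⟨a⁻¹, b⁻¹, false, ?_⟩
    rw [nf_false, nf_false]
    exact inv_eq_of_mul_eq_one_right (h1 a b)
  · refine ⟨b⁻¹, a⁻¹, true, ?_⟩
    rw [nf_true, nf_true]
    apply inv_eq_of_mul_eq_one_right
    calc w * φ a * w * φ b * w * (w * φ b⁻¹ * w * φ a⁻¹ * w) =
          w * φ a * w * φ b * (w * (w * φ b⁻¹ * w * φ a⁻¹)) * w := by group
      _ = w * φ a * w * φ b * (w * φ a⁻¹ * w * φ b⁻¹) * (w * w) := by rw [h.w_base]; group
      _ = 1 := by rw [h1, h.ww, mul_one]

/-- The elements of the group generated. -/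
theorem Rel.exists_nf (h : Rel φ w) {s : S} (hs : s ∈ closure (Set.range φ ∪ {w})) :
    ∃ a b e, s = nf φ w a b e := by
  induction hs using Subgroup.closure_induction with
  | mem x hx =>
    rcases hx with ⟨d, rfl⟩ | hx
    · exact ⟨1, d, false, by rw [nf_false, map_one, mul_one, h.ww, one_mul]⟩
    · rw [Set.mem_singleton_iff] at hx
      subst hx
      exact ⟨1, 1, true, by simp [nf_true, h.ww]⟩
  | one => exact ⟨1, 1, false, by rw [nf_false, map_one, mul_one, mul_one, h.ww]⟩
  | mul x y _ _ hx hy =>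
    obtain ⟨a, b, e, rfl⟩ := hx
    obtain ⟨a', b', e', rfl⟩ := hy
    exact h.nf_mul a b a' b' e e'
  | inv x _ hx =>
    obtain ⟨a, b, e, rfl⟩ := hx
    exact h.nf_inv a b e

theorem card_prod_bool (D : Type*) : Nat.card (D × D × Bool) = 2 * Nat.card D ^ 2 := by
  rw [Nat.card_prod, Nat.card_prod, Nat.card_eq_fintype_card (α := Bool), Fintype.card_bool]
  ring

theorem Rel.card_le (h : Rel φ w) [Finite D] :
    Nat.card (closure (Set.range φ ∪ {w}) : Subgroup S) ≤ 2 * Nat.card D ^ 2 := by
  rw [← card_prod_bool]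
  have h1 : ∀ s : (closure (Set.range φ ∪ {w}) : Subgroup S), ∃ p : D × D × Bool,
      (s : S) = nf φ w p.1 p.2.1 p.2.2 := by
    rintro ⟨s, hs⟩
    obtain ⟨a, b, e, h2⟩ := h.exists_nf hs
    exact ⟨(a, b, e), h2⟩
  choose f hf using h1
  apply Nat.card_le_card_of_injective f
  intro s t hst
  apply Subtype.ext
  rw [hf s, hf t, hst]

theorem Rel.prod {ψ : D →* T} {v : T} (h : Rel φ w) (h' : Rel ψ v) :
    Rel (φ.prod ψ) ((w, v) : S × T) where
  ww := Prod.ext h.ww h'.ww
  comm a b := Prod.ext (h.comm a b) (h'.comm a b)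

/-- Two groups with the relations of `D wr 2` of order `2 * |D| ^ 2` are isomorphic. -/
theorem Rel.exists_equiv [Finite D] [Finite S] [Finite T] {ψ : D →* T} {v : T} (h : Rel φ w)
    (h' : Rel ψ v) (hgen : closure (Set.range φ ∪ {w}) = ⊤) (hgen' : closure (Set.range ψ ∪ {v}) = ⊤)
    (hc : Nat.card S = 2 * Nat.card D ^ 2) (hc' : Nat.card T = 2 * Nat.card D ^ 2) :
    ∃ e : S ≃* T, (∀ d, e (φ d) = ψ d) ∧ e w = v := by
  have hp := h.prod h'
  set H : Subgroup (S × T) := closure (Set.range (φ.prod ψ) ∪ {((w, v) : S × T)}) with hH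
  have hle : Nat.card H ≤ 2 * Nat.card D ^ 2 := hp.card_le
  have hd : ∀ d, (φ d, ψ d) ∈ H := fun d => subset_closure (Or.inl ⟨d, rfl⟩)
  have hw : (w, v) ∈ H := subset_closure (Or.inr rfl)
  obtain ⟨e, he⟩ := equiv_of_graph H (by
      intro s
      have hs : s ∈ closure (Set.range φ ∪ {w}) := hgen ▸ mem_top s
      induction hs using Subgroup.closure_induction with
      | mem x hx =>
        rcases hx with ⟨d, rfl⟩ | hx
        · exact ⟨_, hd d⟩
        · rw [Set.mem_singleton_iff] at hx
          subst hx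
          exact ⟨_, hw⟩
      | one => exact ⟨1, H.one_mem⟩
      | mul x y _ _ hx hy =>
        obtain ⟨t, ht⟩ := hx
        obtain ⟨t', ht'⟩ := hy
        exact ⟨t * t', H.mul_mem ht ht'⟩
      | inv x _ hx =>
        obtain ⟨t, ht⟩ := hx
        exact ⟨t⁻¹, H.inv_mem ht⟩) (by
      intro s
      have hs : s ∈ closure (Set.range ψ ∪ {v}) := hgen' ▸ mem_top s
      induction hs using Subgroup.closure_induction with
      | mem x hx =>
        rcases hx with ⟨d, rfl⟩ | hx
        · exact ⟨_, hd d⟩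
        · rw [Set.mem_singleton_iff] at hx
          subst hx
          exact ⟨_, hw⟩
      | one => exact ⟨1, H.one_mem⟩
      | mul x y _ _ hx hy =>
        obtain ⟨t, ht⟩ := hx
        obtain ⟨t', ht'⟩ := hy
        exact ⟨t * t', H.mul_mem ht ht'⟩
      | inv x _ hx =>
        obtain ⟨t, ht⟩ := hx
        exact ⟨t⁻¹, H.inv_mem ht⟩) (by rw [hc]; exact hle) (by rw [hc']; exact hle)
  exact ⟨e, fun d => he _ _ (hd d), he _ _ hw⟩

end

end Cfsg.Agent.GHTypes.WrTwo
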